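import Groth.Agent.DecentElem.Split
import Groth.Agent.AlgSpDec.LqfChart
import Groth.Agent.AlgSpDM.ElemNbhd
import Groth.Agent.AlgSpLib.FpqcDescent

/-!
# Elementary etale neighbourhoods exist on decent spaces
-/

set_option autoImplicit false
set_option backward.isDefEq.respectTransparency false
set_option backward.isDefEq.respectTransparency.types false

universe u

open CategoryTheory Limits Opposite AlgebraicGeometry AlgSp Groth.Agent.AlgSpLib Groth.Agent.AlgSpPts Groth.Agent.AlgSpDec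

namespace Groth.Agent.DecentElem

variable {S : Scheme.{u}} {F : Sp S}

/-- A pair of pieces over a pair of points comes from a pair over these points. -/
theorem exists_θ_point {V : Over S} {p : (yon S).obj V ⟶ F} {D : Split p} (K : D.Pieces) {u u' : D.T.left}
    {ρ : K.RZ.left} (h₁ : K.aZ.left ρ = K.π.left u) (h₂ : K.bZ.left ρ = K.π.left u') :
    ∃ r : D.R2.left, K.θ.left r = ρ ∧ D.ra.left r = u ∧ D.rb.left r = u' := by
  obtain ⟨ξ, hξf, hξb⟩ : ∃ ξ : K.X₁.left, K.f₁.left ξ = ρ ∧ K.b₁.left ξ = u' := Scheme.exists_preimage_of_isPullback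
    ((IsPullback.of_hasPullback K.bZ K.π).map (Over.forget S)) ρ u' h₂
  let f₂ := pullback.fst (K.f₁ ≫ K.aZ) K.π
  let a₂ := pullback.snd (K.f₁ ≫ K.aZ) K.π
  obtain ⟨η, hηf, hηa⟩ : ∃ η, f₂.left η = ξ ∧ a₂.left η = u := Scheme.exists_preimage_of_isPullback
    ((IsPullback.of_hasPullback (K.f₁ ≫ K.aZ) K.π).map (Over.forget S)) ξ u (by
      show (K.f₁ ≫ K.aZ).left ξ = _
      rw [Over.comp_left, Scheme.Hom.comp_apply, hξf]
      exact h₁)
  have hc₂ : f₂ ≫ K.f₁ ≫ K.aZ = a₂ ≫ K.π := pullback.condition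
  obtain ⟨ψ, hψa, hψb⟩ := D.exists_pair (a := a₂) (b := f₂ ≫ K.b₁) (by
    rw [← K.π_cZ, ← Category.assoc, ← Functor.map_comp, ← hc₂, ← Category.assoc ((yon S).map (f₂ ≫ K.b₁)),
      ← Functor.map_comp, Category.assoc f₂, ← pullback.condition, (yon S).map_comp f₂, (yon S).map_comp f₂,
      (yon S).map_comp K.f₁, (yon S).map_comp K.f₁, Category.assoc, Category.assoc, Category.assoc, Category.assoc,
      K.sqZ.w])
  have he : ψ ≫ K.θ = f₂ ≫ K.f₁ := K.hom_ext_RZ
    (by rw [Category.assoc, K.θ_aZ, ← Category.assoc ψ, hψa, Category.assoc, hc₂])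
    (by rw [Category.assoc, K.θ_bZ, ← Category.assoc ψ, hψb, Category.assoc, Category.assoc, pullback.condition])
  refine ⟨ψ.left η, ?_, ?_, ?_⟩
  · rw [← Scheme.Hom.comp_apply, ← Over.comp_left, he, Over.comp_left, Scheme.Hom.comp_apply, hηf, hξf]
  · rw [← Scheme.Hom.comp_apply, ← Over.comp_left, hψa, hηa]
  · rw [← Scheme.Hom.comp_apply, ← Over.comp_left, hψb, Over.comp_left, Scheme.Hom.comp_apply, hηf, hξb]

/-- A point of an etale chart over which the self product is the diagonal defines a monomorphism. -/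
theorem mono_toHom_of_pairs {W : Over S} {m : (yon S).obj W ⟶ F} (hm : RepWith @Etale m) (w : W.left)
    (h : ∀ ρ : (hm.rep.pullback m).left, (hm.rep.fst' m).left ρ = w → (hm.rep.snd m).left ρ = w →
      ∃ δ : W ⟶ hm.rep.pullback m, δ ≫ hm.rep.fst' m = 𝟙 W ∧ δ ≫ hm.rep.snd m = 𝟙 W ∧ δ.left w = ρ) :
    Mono (FieldPt.ofPt m w).toHom := by
  have sq := hm.rep.isPullback' m
  let P := (FieldPt.ofPt m w).pt
  let ι : P ⟶ W := AlgSpDM.ptι m w
  have : Mono ι.left := inferInstanceAs (Mono (W.left.fromSpecResidueField w))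
  have : Mono ι := (Over.forget S).mono_of_mono_map ‹Mono ι.left›
  obtain ⟨δ, hδ⟩ := (yon S).map_surjective (sq.lift (𝟙 _) (𝟙 _) rfl)
  have hδ1 : δ ≫ hm.rep.fst' m = 𝟙 _ := (yon S).map_injective (by rw [Functor.map_comp, hδ, sq.lift_fst, CategoryTheory.Functor.map_id])
  have hδ2 : δ ≫ hm.rep.snd m = 𝟙 _ := (yon S).map_injective (by rw [Functor.map_comp, hδ, sq.lift_snd, CategoryTheory.Functor.map_id])
  have : Etale δ.left := by
    refine MorphismProperty.HasOfPostcompProperty.of_postcomp (W := @Etale) δ.left (hm.rep.snd m).left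
      (hm.property_snd m) ?_
    rw [← Over.comp_left, hδ2]
    exact inferInstanceAs (Etale (𝟙 _))
  have : IsSplitMono δ := ⟨⟨⟨_, hδ2⟩⟩⟩
  have : Mono δ.left := inferInstanceAs (Mono ((Over.forget S).map δ))
  have : IsOpenImmersion δ.left := IsOpenImmersion.of_flat_of_mono _
  refine mono_of_yon_injective fun T a b hab => ?_
  obtain ⟨a, rfl⟩ := (yon S).map_surjective a
  obtain ⟨b, rfl⟩ := (yon S).map_surjective b
  rw [FieldPt.toHom_ofPt] at hab
  change (yon S).map a ≫ (yon S).map ι ≫ m = (yon S).map b ≫ (yon S).map ι ≫ m at hab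
  rw [← Category.assoc, ← Category.assoc, ← Functor.map_comp, ← Functor.map_comp] at hab
  obtain ⟨l, hl₁, hl₂⟩ := exists_rel_lift sq (a ≫ ι) (b ≫ ι) hab
  have hw : ∀ (k : T ⟶ P) t, (k ≫ ι).left t = w := fun k t => W.left.fromSpecResidueField_apply w _
  obtain ⟨l', hl'⟩ := exists_factor_openImm δ l fun t => by
    obtain ⟨δ', h1, h2, h3⟩ := h (l.left t) (by rw [← Scheme.Hom.comp_apply, ← Over.comp_left, hl₁, hw])
      (by rw [← Scheme.Hom.comp_apply, ← Over.comp_left, hl₂, hw])
    have : δ' = δ := (yon S).map_injective (sq.hom_ext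
      (by rw [← Functor.map_comp, ← Functor.map_comp, h1, hδ1])
      (by rw [← Functor.map_comp, ← Functor.map_comp, h2, hδ2]))
    exact ⟨w, this ▸ h3⟩
  refine congrArg (yon S).map ((cancel_mono ι).1 ?_)
  rw [← hl₁, ← hl₂, ← hl', Category.assoc, Category.assoc, hδ1, hδ2]

/-- An elementary etale neighbourhood from a chart with a single point over a given one. -/
theorem exists_elem_of_single (hA : IsAlgSpace F) (hd : Representable (Limits.diag F)) (hF : IsDecent F) {V : Over S}
    [IsAffine V.left] {p : (yon S).obj V ⟶ F} (he : RepWith @Etale p) (v : V.left)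
    (hv : Points.ofPt p ⁻¹' {Points.ofPt p v} = {v}) :
    ∃ (W : Over S) (m : (yon S).obj W ⟶ F) (w : W.left), IsAffine W.left ∧
      IsElemEtaleNbhd m w (Points.ofPt p v) := by
  have hp := he.rep
  have hf : RepWith @Flat p :=
    repWith_mono (P := @Etale) (fun _ _ f (_ : Etale f) => (inferInstance : Flat f)) _ he
  have hlfp : RepWith @LocallyOfFinitePresentation p :=
    repWith_mono (P := @Etale) (fun _ _ f (_ : Etale f) => (inferInstance : LocallyOfFinitePresentation f)) _ he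
  obtain ⟨D, u, hu, hCov, hall⟩ := exists_cov_split_fibre he v hv (finite_preimage_snd hF he v)
  obtain ⟨K⟩ := D.exists_pieces hp
  let i := openOverι K.RZ K.EZo
  have : IsOpenImmersion i.left := inferInstanceAs (IsOpenImmersion K.EZo.ι)
  let s := i ≫ K.bZ
  let t := i ≫ K.aZ
  obtain ⟨hfin, hflat, hfp⟩ : IsFinite s.left ∧ Flat s.left ∧ LocallyOfFinitePresentation s.left :=
    K.exists_piece_iso hCov
  have heq : IsEqvRel s t := K.isEqvRel
  obtain ⟨G, aG, sqG, hls⟩ : ∃ (G : Sp S) (a : (yon S).obj K.Z ⟶ G),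
      IsPullback ((yon S).map t) ((yon S).map s) a a ∧ Sheaf.IsLocallySurjective a := by
    refine ⟨_, quotMap s t, isPullback_quotMap heq, ?_⟩
    have : Epi (QuotSh.quotπ Scheme.fppfPrecoverage s t) := by
      unfold QuotSh.quotπ
      infer_instance
    exact (CategoryTheory.Sheaf.isLocallySurjective_iff_epi (quotMap s t)).2 (epi_comp _ _)
  obtain ⟨g, hg⟩ := exists_desc_of_kernelPair sqG K.cZ (by
    simp only [t, s, Functor.map_comp, Category.assoc]
    exact congrArg ((yon S).map i ≫ ·) K.sqZ.w)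
  let z₀ : K.Z.left := K.π.left u
  obtain ⟨U, hU, hOU⟩ := exists_affineOpen_of_finite K.ζ.left
    ((s.left.finite_preimage_singleton z₀).image t.left)
  obtain ⟨G', hGU, hGR, hGs, hGt⟩ := exists_groupoid sqG
  obtain ⟨W₀, hW₀, hzW, hinv⟩ : ∃ W₀ : K.Z.left.Opens, IsAffineOpen W₀ ∧ z₀ ∈ W₀ ∧
      s.left ⁻¹ᵁ W₀ = t.left ⁻¹ᵁ W₀ := by
    obtain ⟨GU, GR, pU, pR, gs, gt, ge, gi, gc, h1, h2, h3, h4, h5, h6, h7, h8, h9, h10, h11, h12, h13⟩ := G'
    subst hGU hGR
    obtain rfl : gs = s.left := eq_of_heq hGs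
    obtain rfl : gt = t.left := eq_of_heq hGt
    let G' : Grpd.GroupoidScheme S :=
      ⟨_, _, pU, pR, _, _, ge, gi, gc, h1, h2, h3, h4, h5, h6, h7, h8, h9, h10, h11, h12, h13⟩
    have : IsFinite G'.s := hfin
    have : Flat G'.s := hflat
    have : LocallyOfFinitePresentation G'.s := hfp
    obtain ⟨W₀, h1, h2, h3, -⟩ := GrpdLib.exists_invariant_affineOpen (G := G') z₀ U hU
      (fun r hr => hOU ⟨r, hr, rfl⟩)
    exact ⟨W₀, h1, h2, h3⟩
  let Z' := openOver K.Z W₀
  let ι := openOverι K.Z W₀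
  have : IsAffine Z'.left := hW₀
  obtain ⟨s', hs', sqs⟩ := exists_res s W₀ (rfl : s.left ⁻¹ᵁ W₀ = s.left ⁻¹ᵁ W₀)
  obtain ⟨t', ht', sqt⟩ := exists_res t W₀ (hinv.symm : t.left ⁻¹ᵁ W₀ = s.left ⁻¹ᵁ W₀)
  have hs'f : IsFinite s'.left := MorphismProperty.of_isPullback (P := @IsFinite) (sqs.map (Over.forget S)) hfin
  have hs'fl : Flat s'.left := MorphismProperty.of_isPullback (P := @Flat) (sqs.map (Over.forget S)) hflat
  have hs'fp : LocallyOfFinitePresentation s'.left :=
    MorphismProperty.of_isPullback (P := @LocallyOfFinitePresentation) (sqs.map (Over.forget S)) hfp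
  let k := openOverι (openOver K.RZ K.EZo) (s.left ⁻¹ᵁ W₀)
  have : IsOpenImmersion k.left := inferInstanceAs (IsOpenImmersion (s.left ⁻¹ᵁ W₀).ι)
  let aG' := (yon S).map ι ≫ aG
  have : Mono ι := (Over.forget S).mono_of_mono_map (inferInstanceAs (Mono W₀.ι))
  have : Mono k := (Over.forget S).mono_of_mono_map (inferInstanceAs (Mono k.left))
  have : Mono ((yon S).map ι) := (yon S).map_mono ι
  have sqG' : IsPullback ((yon S).map t') ((yon S).map s') aG' aG' := isPullback_restrict sqG ht' sqs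
  obtain ⟨W, q, m₀, hWa, hq, hm₀, hqm⟩ := exists_quot_of_finite_relation sqG'
  let m := m₀ ≫ g
  have hqc : (yon S).map q ≫ m = (yon S).map (ι ≫ K.ζ) ≫ p := by
    rw [← Category.assoc, hqm, Category.assoc, hg, (yon S).map_comp ι K.ζ, Category.assoc]
  have hqq : IsPullback t' s' q q := by
    have hw : t' ≫ q = s' ≫ q := (yon S).map_injective ((cancel_mono m₀).1 (by
      rw [Functor.map_comp, Functor.map_comp, Category.assoc, Category.assoc, hqm, sqG'.w]))
    refine IsPullback.of_map (yon S) hw ⟨⟨by rw [← Functor.map_comp, ← Functor.map_comp, hw]⟩,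
      ⟨PullbackCone.isLimitAux' _ fun c => ?_⟩⟩
    refine ⟨sqG'.lift c.fst c.snd (by rw [← hqm, reassoc_of% c.condition]), sqG'.lift_fst _ _ _,
      sqG'.lift_snd _ _ _, fun {x} h1 h2 => sqG'.hom_ext (h1.trans (sqG'.lift_fst _ _ _).symm)
        (h2.trans (sqG'.lift_snd _ _ _).symm)⟩
  have hm : Representable m := Functor.relativelyRepresentable.of_diag hd _
  have hc' : Representable ((yon S).map q ≫ m) := MorphismProperty.comp_mem _ _ _ (representable_yon_map q) hm
  let RZ' := hc'.pullback ((yon S).map q ≫ m)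
  let a' : RZ' ⟶ Z' := hc'.fst' ((yon S).map q ≫ m)
  let b' : RZ' ⟶ Z' := hc'.snd ((yon S).map q ≫ m)
  have sqR' : IsPullback ((yon S).map a') ((yon S).map b') ((yon S).map q ≫ m) ((yon S).map q ≫ m) :=
    hc'.isPullback' _
  obtain ⟨j, hja, hjb⟩ := exists_rel_lift sqR' t' s' (by
    rw [← Functor.map_comp_assoc, ← Functor.map_comp_assoc, hqq.w])
  have hj : IsOpenImmersion j.left := by
    obtain ⟨l, hla, hlb⟩ := exists_rel_lift K.sqZ (a' ≫ ι) (b' ≫ ι) (by
      have := sqR'.w
      rw [hqc, (yon S).map_comp ι K.ζ, Category.assoc, ← Category.assoc ((yon S).map a'),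
        ← Category.assoc ((yon S).map b'), ← Functor.map_comp, ← Functor.map_comp] at this
      exact this)
    have : Mono l := ⟨fun x y h => (yon S).map_injective (sqR'.hom_ext
      (by rw [← Functor.map_comp, ← Functor.map_comp, show x ≫ a' = y ≫ a' from (cancel_mono ι).1 (by
        rw [Category.assoc, Category.assoc, ← hla, reassoc_of% h])])
      (by rw [← Functor.map_comp, ← Functor.map_comp, show x ≫ b' = y ≫ b' from (cancel_mono ι).1 (by
        rw [Category.assoc, Category.assoc, ← hlb, reassoc_of% h])]))⟩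
    have hjl : j ≫ l = k ≫ i := K.hom_ext_RZ
      (by rw [Category.assoc, hla, reassoc_of% hja, ht', Category.assoc])
      (by rw [Category.assoc, hlb, reassoc_of% hjb, hs', Category.assoc])
    have hjl' : IsOpenImmersion (j.left ≫ l.left) := by
      show IsOpenImmersion (j ≫ l).left
      rw [hjl]
      exact inferInstanceAs (IsOpenImmersion (k.left ≫ i.left))
    have : Mono l.left := inferInstanceAs (Mono ((Over.forget S).map l))
    have sqi : IsPullback (𝟙 _) j.left (j.left ≫ l.left) l.left :=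
      ⟨⟨by simp⟩, ⟨PullbackCone.IsLimit.mk _ (fun c => c.fst) (fun c => Category.comp_id _)
        (fun c => by rw [← cancel_mono l.left, Category.assoc]; exact c.condition)
        (fun c n h₁ _ => by simpa using h₁)⟩⟩
    exact MorphismProperty.of_isPullback (P := @IsOpenImmersion) sqi hjl'
  have hdiag : RepWith @IsOpenImmersion (pullback.diagonal m) :=
    repWith_openImm_diagonal hm hq sqR' (j := j) (by rw [hja, hjb]; exact hqq)
  have hflq : RepWith @Flat ((yon S).map q ≫ m) := by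
    rw [hqc]
    exact repWith_comp ((repWith_yon_map_iff _ _).2 (inferInstanceAs (Flat (W₀.ι ≫ K.ζ.left)))) hf
  have hlpq : RepWith @LocallyOfFinitePresentation ((yon S).map q ≫ m) := by
    rw [hqc]
    exact repWith_comp
      ((repWith_yon_map_iff _ _).2 (inferInstanceAs (LocallyOfFinitePresentation (W₀.ι ≫ K.ζ.left)))) hlfp
  have hme : RepWith @Etale m := repWith_etale_of_cover hm hq hflq hlpq hdiag
  let zz : Z'.left := ⟨z₀, hzW⟩
  have hmv : Points.ofPt m (q.left zz) = Points.ofPt p v := by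
    rw [← ofPt_comp, hqc, ofPt_comp]
    show Points.ofPt p (K.ζ.left (K.π.left u)) = _
    rw [← Scheme.Hom.comp_apply, ← Over.comp_left, K.πζ, hu]
  refine ⟨W, m, q.left zz, hWa, hme, hmv, mono_toHom_of_pairs hme _ fun ρ hρ₁ hρ₂ => ?_⟩
  let fW := hme.rep.fst' m
  let sW := hme.rep.snd m
  obtain ⟨ρ₁, hρ₁f, hρ₁s⟩ : ∃ ρ₁, (pullback.fst fW q).left ρ₁ = ρ ∧ (pullback.snd fW q).left ρ₁ = zz :=
    Scheme.exists_preimage_of_isPullback ((IsPullback.of_hasPullback fW q).map (Over.forget S)) ρ zz hρ₁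
  obtain ⟨ξ, hξf, hξs⟩ : ∃ ξ, (pullback.fst (pullback.fst fW q ≫ sW) q).left ξ = ρ₁ ∧
      (pullback.snd (pullback.fst fW q ≫ sW) q).left ξ = zz :=
    Scheme.exists_preimage_of_isPullback ((IsPullback.of_hasPullback (pullback.fst fW q ≫ sW) q).map (Over.forget S))
      ρ₁ zz (by
        show (pullback.fst fW q ≫ sW).left ρ₁ = _
        rw [Over.comp_left, Scheme.Hom.comp_apply, hρ₁f]
        exact hρ₂)
  let π₂ := pullback.fst (pullback.fst fW q ≫ sW) q ≫ pullback.fst fW q
  let A := pullback.fst (pullback.fst fW q ≫ sW) q ≫ pullback.snd fW q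
  let B := pullback.snd (pullback.fst fW q ≫ sW) q
  have hA : A ≫ q = π₂ ≫ fW := by rw [Category.assoc, ← pullback.condition, Category.assoc]
  have hB : B ≫ q = π₂ ≫ sW := by rw [Category.assoc, ← pullback.condition]
  obtain ⟨l, hla, hlb⟩ := exists_rel_lift K.sqZ (A ≫ ι) (B ≫ ι) (by
    have e1 : (yon S).map ι ≫ K.cZ = (yon S).map q ≫ m := by
      rw [hqc, (yon S).map_comp ι K.ζ, Category.assoc]
    have e2 : ∀ {X₀ : Over S} (C : X₀ ⟶ Z'), (yon S).map (C ≫ ι) ≫ K.cZ = (yon S).map (C ≫ q) ≫ m := fun {X₀} C => by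
      rw [(yon S).map_comp C, Category.assoc, e1, (yon S).map_comp C, Category.assoc]
    refine (e2 A).trans (Eq.trans ?_ (e2 B).symm)
    rw [hA, hB, Functor.map_comp, Functor.map_comp, Category.assoc, Category.assoc, (hme.rep.isPullback' m).w]
    simp only [π₂, sW, Functor.map_comp, Category.assoc])
  have hAξ : A.left ξ = zz := by
    rw [Over.comp_left, Scheme.Hom.comp_apply, hξf, hρ₁s]
  have hlξ : l.left ξ ∈ K.EZo := by
    obtain ⟨r, hr, hr₁, hr₂⟩ := exists_θ_point K (ρ := l.left ξ) (u := u) (u' := u)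
      (by rw [← Scheme.Hom.comp_apply, ← Over.comp_left, hla, Over.comp_left, Scheme.Hom.comp_apply, hAξ]; rfl)
      (by rw [← Scheme.Hom.comp_apply, ← Over.comp_left, hlb, Over.comp_left, Scheme.Hom.comp_apply, hξs]; rfl)
    rw [← hr, K.mem_EZo_iff]
    exact mem_E_of_fibre D hall hr₁ hr₂
  let E₀ := l.left ⁻¹ᵁ K.EZo
  let o := openOverι _ E₀
  obtain ⟨e, he'⟩ := exists_factor_openImm i (o ≫ l) fun x => by
    show _ ∈ Set.range K.EZo.ι
    rw [Scheme.Opens.range_ι]
    exact x.2
  have hAB : o ≫ A ≫ q = o ≫ B ≫ q := (yon S).map_injective ((cancel_mono m₀).1 (by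
    simp only [Functor.map_comp, Category.assoc]
    rw [hqm]
    have h1 : o ≫ A ≫ ι = e ≫ t := by rw [← hla, ← Category.assoc o, ← he', Category.assoc]
    have h2 : o ≫ B ≫ ι = e ≫ s := by rw [← hlb, ← Category.assoc o, ← he', Category.assoc]
    have h3 := congrArg ((yon S).map e ≫ ·) sqG.w
    simp only [← Category.assoc, ← Functor.map_comp, ← h1, ← h2] at h3
    simpa only [Functor.map_comp, Category.assoc] using h3))
  obtain ⟨δ, hδ⟩ := (yon S).map_surjective ((hme.rep.isPullback' m).lift (𝟙 _) (𝟙 _) rfl)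
  have hδ1 : δ ≫ fW = 𝟙 _ := (yon S).map_injective (by
    rw [Functor.map_comp, hδ, IsPullback.lift_fst, CategoryTheory.Functor.map_id])
  have hδ2 : δ ≫ sW = 𝟙 _ := (yon S).map_injective (by
    rw [Functor.map_comp, hδ, IsPullback.lift_snd, CategoryTheory.Functor.map_id])
  refine ⟨δ, hδ1, hδ2, ?_⟩
  have hπ : o ≫ π₂ = o ≫ A ≫ q ≫ δ := (yon S).map_injective ((hme.rep.isPullback' m).hom_ext
    (by rw [← Functor.map_comp, ← Functor.map_comp]; congr 1
        simp only [Category.assoc]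
        rw [hδ1, Category.comp_id, hA])
    (by rw [← Functor.map_comp, ← Functor.map_comp]; congr 1
        simp only [Category.assoc]
        rw [hδ2, Category.comp_id, hAB, hB]))
  have hξ : ξ ∈ E₀ := hlξ
  have := congrArg (fun k : openOver _ E₀ ⟶ _ => k.left ⟨ξ, hξ⟩) hπ
  simp only [Over.comp_left, Scheme.Hom.comp_apply] at this
  change π₂.left ξ = δ.left (q.left (A.left ξ)) at this
  rw [hAξ] at this
  rw [← this, Over.comp_left, Scheme.Hom.comp_apply, hξf, hρ₁f]

/-- Every point of a decent space has an elementary etale neighbourhood with a single point over it. -/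
theorem exists_elem (hA : IsAlgSpace F) (hF : IsDecent F) (x : Points F) :
    ∃ (U : Over S) (a : (yon S).obj U ⟶ F) (u : U.left), IsAffine U.left ∧ IsElemEtaleNbhd a u x ∧
      Points.ofPt a ⁻¹' {x} = {u} := by
  obtain ⟨V, p, v, hV, he, hv⟩ := exists_single_chart hA hF x
  have : IsAffine V.left := hV
  have hx : Points.ofPt p v = x := (Set.ext_iff.1 hv v).2 rfl
  subst hx
  obtain ⟨W, m, w, hW, hm⟩ := exists_elem_of_single hA hA.diag hF he v hv
  have : IsAffine W.left := hW
  obtain ⟨p', hp', -, hq⟩ := hF (Points.ofPt p v)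
  have hfin : (Points.ofPt m ⁻¹' {Points.ofPt p v}).Finite := hp' ▸ finite_fibre_of_repWith hm.etale p' hq
  obtain ⟨O, hO, hwO, hOF⟩ := isOpen_singleton_fibre hfin (u := w) hm.ofPt_eq
    fun v' hv' hvw => (eq_of_specializes_of_isDecent hF hm.etale (hm.ofPt_eq.trans (Eq.symm hv')) hvw).symm
  obtain ⟨A, hAa, hwA, hAO⟩ := exists_isAffineOpen_mem_and_subset (U := (⟨O, hO⟩ : W.left.Opens)) (x := w) hwO
  let j := openOverι W A
  have : IsOpenImmersion j.left := inferInstanceAs (IsOpenImmersion A.ι)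
  obtain ⟨k, hk⟩ := exists_factor_openImm j (AlgSpDM.ptι m w) fun z => by
    show _ ∈ Set.range A.ι
    rw [Scheme.Opens.range_ι]
    show W.left.fromSpecResidueField w z ∈ A
    rw [W.left.fromSpecResidueField_apply]
    exact hwA
  have : IsOpenImmersion j.left := inferInstanceAs (IsOpenImmersion A.ι)
  obtain ⟨h, hj⟩ := AlgSpDM.isElem_of_section hm
    (repWith_comp ((repWith_yon_map_iff _ j).2 (inferInstanceAs (Etale A.ι))) hm.etale) j rfl k hk
  refine ⟨openOver W A, (yon S).map j ≫ m, _, hAa, h, ?_⟩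
  ext x'
  show Points.ofPt ((yon S).map j ≫ m) x' = _ ↔ _
  rw [ofPt_comp]
  refine ⟨fun hx' => j.left.isOpenEmbedding.injective ?_, fun hx' => ?_⟩
  · rw [hj]
    exact hOF ⟨hAO x'.2, hx'⟩
  · rw [Set.mem_singleton_iff.1 hx', hj]
    exact hm.ofPt_eq

end Groth.Agent.DecentElem
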