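import Groth.Agent.AlgSpPts.FppfTarget
import Groth.Agent.AlgSpLib.Rep
import Groth.Agent.AlgSpLib.Sheaf
import Groth.Agent.AlgSpLib.FpqcDescent
import Groth.Agent.AlgSpDec.LqfSplitZ
import Groth.Prelude.Def_Desc

/-!
# Representability descends along etale charts for classes of morphisms with effective descent
-/

set_option autoImplicit false
set_option backward.isDefEq.respectTransparency false
set_option backward.isDefEq.respectTransparency.types false

universe u

open CategoryTheory Limits Opposite AlgebraicGeometry AlgSp Groth.Agent.AlgSpLib Groth.Agent.AlgSpPts Groth.Agent.AlgSpDec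

namespace Groth.Agent.DecentElem

variable {S : Scheme.{u}} {F G : Sp S} {T T' V' : Over S} {f : G ⟶ F} {t : (yon S).obj T ⟶ F} {e : T' ⟶ T}
  {π : V' ⟶ T'} {vG : (yon S).obj V' ⟶ G}

/-- Two points of `V'` have the same image in `G`. -/
def SameImg (vG : (yon S).obj V' ⟶ G) {Z : Scheme.{u}} (a b : Z ⟶ V'.left) : Prop :=
  b ≫ V'.hom = a ≫ V'.hom ∧ ∀ (W : Over S) (ι : W.left ⟶ Z) (α β : W ⟶ V'), α.left = ι ≫ a → β.left = ι ≫ b →
    (yon S).map α ≫ vG = (yon S).map β ≫ vG

theorem SameImg.refl {Z : Scheme.{u}} (a : Z ⟶ V'.left) : SameImg vG a a :=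
  ⟨rfl, fun W ι α β h₁ h₂ => by rw [show α = β from Over.OverMorphism.ext (h₁.trans h₂.symm)]⟩

theorem SameImg.symm {Z : Scheme.{u}} {a b : Z ⟶ V'.left} (h : SameImg vG a b) : SameImg vG b a :=
  ⟨h.1.symm, fun W ι α β h₁ h₂ => (h.2 W ι β α h₂ h₁).symm⟩

theorem SameImg.trans {Z : Scheme.{u}} {a b c : Z ⟶ V'.left} (h : SameImg vG a b) (h' : SameImg vG b c) :
    SameImg vG a c :=
  ⟨h'.1.trans h.1, fun W ι α γ h₁ h₂ => by
    let β : W ⟶ V' := Over.homMk (ι ≫ b) (by rw [Category.assoc, h.1, ← Category.assoc, ← h₁, Over.w])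
    exact (h.2 W ι α β h₁ rfl).trans (h'.2 W ι β γ rfl h₂)⟩

theorem SameImg.comp {Z Z' : Scheme.{u}} {a b : Z ⟶ V'.left} (h : SameImg vG a b) (g : Z' ⟶ Z) :
    SameImg vG (g ≫ a) (g ≫ b) :=
  ⟨by rw [Category.assoc, h.1, Category.assoc], fun W ι α β h₁ h₂ =>
    h.2 W (ι ≫ g) α β (by rw [h₁, Category.assoc]) (by rw [h₂, Category.assoc])⟩

theorem SameImg.unique (sq : IsPullback vG ((yon S).map π) f ((yon S).map e ≫ t)) {Z : Scheme.{u}}
    {a b : Z ⟶ V'.left} (h : SameImg vG a b) (hπ : a ≫ π.left = b ≫ π.left) : a = b := by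
  let α : Over.mk (a ≫ V'.hom) ⟶ V' := Over.homMk a rfl
  let β : Over.mk (a ≫ V'.hom) ⟶ V' := Over.homMk b h.1
  have h1 := h.2 _ (𝟙 Z) α β (Category.id_comp _).symm (Category.id_comp _).symm
  exact congrArg (fun k : _ ⟶ V' => k.left) ((yon S).map_injective (sq.hom_ext h1
    (by rw [← Functor.map_comp, ← Functor.map_comp,
      show α ≫ π = β ≫ π from Over.OverMorphism.ext hπ])) : α = β)

theorem exists_sameImg (sq : IsPullback vG ((yon S).map π) f ((yon S).map e ≫ t)) {Z : Scheme.{u}}
    (a : Z ⟶ V'.left) (x : Z ⟶ T'.left) (h : (a ≫ π.left) ≫ e.left = x ≫ e.left) :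
    ∃ b, b ≫ π.left = x ∧ SameImg vG a b := by
  let W := Over.mk (a ≫ V'.hom)
  let α : W ⟶ V' := Over.homMk a rfl
  let x' : W ⟶ T' := Over.homMk x (by
    show x ≫ T'.hom = a ≫ V'.hom
    rw [← Over.w e, ← Category.assoc, ← h, Category.assoc, Category.assoc, Over.w, Over.w])
  have hw : ((yon S).map α ≫ vG) ≫ f = (yon S).map x' ≫ (yon S).map e ≫ t := by
    rw [Category.assoc, sq.w, ← Category.assoc, ← Functor.map_comp, ← Category.assoc, ← Category.assoc,
      ← Functor.map_comp, ← Functor.map_comp,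
      show (α ≫ π) ≫ e = x' ≫ e from Over.OverMorphism.ext h]
  obtain ⟨β, hβ⟩ := (yon S).map_surjective (sq.lift _ _ hw)
  have hβπ : β ≫ π = x' := (yon S).map_injective (by rw [Functor.map_comp, hβ, sq.lift_snd])
  refine ⟨β.left, congrArg (fun k : W ⟶ T' => k.left) hβπ, Over.w β, fun W' ι α' β' h₁ h₂ => ?_⟩
  let j : W' ⟶ W := Over.homMk ι (by
    show ι ≫ a ≫ V'.hom = W'.hom
    rw [← Category.assoc, ← h₁, Over.w])
  rw [show α' = j ≫ α from Over.OverMorphism.ext h₁, show β' = j ≫ β from Over.OverMorphism.ext h₂,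
    Functor.map_comp, Functor.map_comp, Category.assoc, Category.assoc, hβ, sq.lift_fst]

/-- Move a point to the other lift. -/
noncomputable def move (sq : IsPullback vG ((yon S).map π) f ((yon S).map e ≫ t)) {Z : Scheme.{u}}
    {x₀ : Z ⟶ T'.left} (x₁ : Z ⟶ T'.left) (h : x₀ ≫ e.left = x₁ ≫ e.left)
    (v : Desc.Lifts (Over.mk π.left) x₀) : Desc.Lifts (Over.mk π.left) x₁ :=
  ⟨(exists_sameImg sq (show Z ⟶ V'.left from v.1) x₁ ((congrArg (· ≫ e.left) v.2).trans h)).choose,
    (exists_sameImg sq (show Z ⟶ V'.left from v.1) x₁ ((congrArg (· ≫ e.left) v.2).trans h)).choose_spec.1⟩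

theorem sameImg_move (sq : IsPullback vG ((yon S).map π) f ((yon S).map e ≫ t)) {Z : Scheme.{u}}
    {x₀ : Z ⟶ T'.left} (x₁ : Z ⟶ T'.left) (h : x₀ ≫ e.left = x₁ ≫ e.left)
    (v : Desc.Lifts (Over.mk π.left) x₀) : SameImg vG (show Z ⟶ V'.left from v.1) (move sq x₁ h v).1 :=
  (exists_sameImg sq (show Z ⟶ V'.left from v.1) x₁ ((congrArg (· ≫ e.left) v.2).trans h)).choose_spec.2

theorem move_ext (sq : IsPullback vG ((yon S).map π) f ((yon S).map e ≫ t)) {Z : Scheme.{u}}
    {x : Z ⟶ T'.left} (v w : Desc.Lifts (Over.mk π.left) x)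
    (hs : SameImg vG (show Z ⟶ V'.left from v.1) w.1) : v = w :=
  Subtype.ext (SameImg.unique sq hs (v.2.trans w.2.symm))

/-- The descent datum on the base change of a sheaf to a covering. -/
noncomputable def descData (sq : IsPullback vG ((yon S).map π) f ((yon S).map e ≫ t)) : Desc.SchDD e.left where
  obj := Over.mk π.left
  φ Z x₀ x₁ h :=
    { toFun := fun v => move sq x₁ h v
      invFun := fun v => move sq x₀ h.symm v
      left_inv := fun v => move_ext sq _ _ ((sameImg_move sq x₁ h v).trans (sameImg_move sq x₀ h.symm _)).symm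
      right_inv := fun v => move_ext sq _ _ ((sameImg_move sq x₀ h.symm v).trans (sameImg_move sq x₁ h _)).symm }
  φ_natural Z Z' g x₀ x₁ h h' v v' hv' := by
    refine congrArg Subtype.val (move_ext sq (move sq (g ≫ x₁) h' v')
      ⟨g ≫ (move sq x₁ h v).1, (Category.assoc _ _ _).trans (congrArg (g ≫ ·) (move sq x₁ h v).2)⟩ ?_)
    refine (sameImg_move sq (g ≫ x₁) h' v').symm.trans ?_
    show SameImg vG v'.1 (g ≫ (move sq x₁ h v).1)
    rw [hv']
    exact (sameImg_move sq x₁ h v).comp g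
  φ_self Z x v := move_ext sq _ _ (sameImg_move sq x rfl v).symm
  φ_comp Z x₀ x₁ x₂ h₀₁ h₁₂ v := move_ext sq _ _
    (((sameImg_move sq x₁ h₀₁ v).trans (sameImg_move sq x₂ h₁₂ _)).symm.trans (sameImg_move sq x₂ (h₀₁.trans h₁₂) v))

theorem descData_same (sq : IsPullback vG ((yon S).map π) f ((yon S).map e ≫ t)) {Z : Scheme.{u}}
    (x₀ x₁ : Z ⟶ T'.left) (h : x₀ ≫ e.left = x₁ ≫ e.left) (v : Desc.Lifts (descData sq).obj x₀) :
    SameImg vG (show Z ⟶ V'.left from v.1) ((descData sq).φ x₀ x₁ h v).1 :=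
  sameImg_move sq x₁ h v

theorem exists_rep_of_effective [Etale e.left] [Surjective e.left]
    (sq : IsPullback vG ((yon S).map π) f ((yon S).map e ≫ t)) (hD : (Desc.toDD e.left).essImage (descData sq)) :
    ∃ (W : Over S) (w : W ⟶ T) (wG : (yon S).obj W ⟶ G), IsPullback wG ((yon S).map w) f t := by
  obtain ⟨W₀, ⟨θ⟩⟩ := hD
  let W : Over S := Over.mk (W₀.hom ≫ T.hom)
  let w : W ⟶ T := Over.homMk W₀.hom rfl
  let W' : Over S := pullback e w
  let p₁ : W' ⟶ T' := pullback.fst e w
  let p₂ : W' ⟶ W := pullback.snd e w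
  have sqW : IsPullback p₁.left p₂.left e.left W₀.hom := (IsPullback.of_hasPullback e w).map (Over.forget S)
  -- the identification with the given scheme over the cover
  let a₀ : W'.left ⟶ V'.left := sqW.isoPullback.hom ≫ θ.hom.hom.left
  let b₀ : V'.left ⟶ W'.left := θ.inv.hom.left ≫ sqW.isoPullback.inv
  have hθ₁ : θ.hom.hom.left ≫ θ.inv.hom.left = 𝟙 _ :=
    congrArg (fun k : (Desc.toDD e.left).obj W₀ ⟶ (Desc.toDD e.left).obj W₀ => k.hom.left) θ.hom_inv_id
  have hθ₂ : θ.inv.hom.left ≫ θ.hom.hom.left = 𝟙 _ :=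
    congrArg (fun k : descData sq ⟶ descData sq => k.hom.left) θ.inv_hom_id
  have hab : b₀ ≫ a₀ = 𝟙 _ := by
    show (θ.inv.hom.left ≫ sqW.isoPullback.inv) ≫ sqW.isoPullback.hom ≫ θ.hom.hom.left = 𝟙 _
    rw [Category.assoc, Iso.inv_hom_id_assoc]
    exact hθ₂
  have hba : a₀ ≫ b₀ = 𝟙 _ := by
    show (sqW.isoPullback.hom ≫ θ.hom.hom.left) ≫ θ.inv.hom.left ≫ sqW.isoPullback.inv = 𝟙 _
    rw [Category.assoc, ← Category.assoc θ.hom.hom.left, hθ₁]
    exact (congrArg (sqW.isoPullback.hom ≫ ·) (Category.id_comp _)).trans sqW.isoPullback.hom_inv_id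
  have ha₀ : a₀ ≫ π.left = p₁.left := by
    show (sqW.isoPullback.hom ≫ θ.hom.hom.left) ≫ π.left = p₁.left
    rw [Category.assoc, show θ.hom.hom.left ≫ π.left = pullback.fst e.left W₀.hom from Over.w θ.hom.hom]
    exact sqW.isoPullback_hom_fst
  let a : W' ⟶ V' := Over.homMk a₀ (by rw [← Over.w π, ← Category.assoc, ha₀, Over.w])
  have haπ : a ≫ π = p₁ := Over.OverMorphism.ext ha₀
  have : IsIso a.left := ⟨b₀, hba, hab⟩
  have : IsIso ((Over.forget S).map a) := ‹IsIso a.left›
  have : IsIso a := isIso_of_reflects_iso _ (Over.forget S)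
  -- descend the map to `G`
  have he : RepWith @Etale ((yon S).map p₂) := (repWith_yon_map_iff _ p₂).2
    (MorphismProperty.of_isPullback (P := @Etale) sqW ‹Etale e.left›)
  have hs : RepWith @Surjective ((yon S).map p₂) := (repWith_yon_map_iff _ p₂).2
    (MorphismProperty.of_isPullback (P := @Surjective) sqW ‹Surjective e.left›)
  have := isLocallySurjective_of_etale_surjective he hs
  let k₀ : pullback p₂ p₂ ⟶ W' := pullback.fst p₂ p₂
  let k₁ : pullback p₂ p₂ ⟶ W' := pullback.snd p₂ p₂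
  have hk : k₀.left ≫ p₂.left = k₁.left ≫ p₂.left := congrArg (fun k : _ ⟶ W => k.left) pullback.condition
  have hxe : (k₀.left ≫ p₁.left) ≫ e.left = (k₁.left ≫ p₁.left) ≫ e.left := by
    rw [Category.assoc, Category.assoc, sqW.w, ← Category.assoc, hk, Category.assoc]
  have hv : (k₀.left ≫ sqW.isoPullback.hom) ≫ pullback.fst e.left W₀.hom = k₀.left ≫ p₁.left := by
    rw [Category.assoc, sqW.isoPullback_hom_fst]
  let v : Desc.Lifts ((Desc.toDD e.left).obj W₀).obj (k₀.left ≫ p₁.left) := ⟨k₀.left ≫ sqW.isoPullback.hom, hv⟩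
  let v' : Desc.Lifts (descData sq).obj (k₀.left ≫ p₁.left) := θ.hom.push v
  have hc := θ.hom.comm _ (k₁.left ≫ p₁.left) hxe v v' rfl
  have hcan : (((Desc.toDD e.left).obj W₀).φ (k₀.left ≫ p₁.left) (k₁.left ≫ p₁.left) hxe v).1 =
      k₁.left ≫ sqW.isoPullback.hom := by
    refine pullback.hom_ext ((((Desc.toDD e.left).obj W₀).φ _ _ hxe v).2.trans ?_) ?_
    · rw [Category.assoc, sqW.isoPullback_hom_fst]
    · refine (pullback.lift_snd _ _ _).trans ?_
      show (k₀.left ≫ sqW.isoPullback.hom) ≫ pullback.snd e.left W₀.hom = _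
      rw [Category.assoc, sqW.isoPullback_hom_snd, Category.assoc, sqW.isoPullback_hom_snd]
      exact hk
  have hsame : SameImg vG (k₀.left ≫ a.left) (k₁.left ≫ a.left) := by
    have h1 := descData_same sq _ _ hxe v'
    rw [hc, hcan] at h1
    simpa [v', Desc.SchDD.Hom.push, v, a, a₀, Category.assoc] using h1
  have hdesc : (yon S).map k₀ ≫ (yon S).map a ≫ vG = (yon S).map k₁ ≫ (yon S).map a ≫ vG := by
    rw [← Category.assoc, ← Category.assoc, ← Functor.map_comp, ← Functor.map_comp]
    exact hsame.2 _ (𝟙 _) (k₀ ≫ a) (k₁ ≫ a) (Category.id_comp _).symm (Category.id_comp _).symm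
  obtain ⟨wG, hwG⟩ := exists_desc_of_kernelPair ((IsPullback.of_hasPullback p₂ p₂).map (yon S))
    ((yon S).map a ≫ vG) hdesc
  have : Epi ((yon S).map p₂) := (Sheaf.isLocallySurjective_iff_epi _).1 inferInstance
  have hw : wG ≫ f = (yon S).map w ≫ t := by
    rw [← cancel_epi ((yon S).map p₂), ← Category.assoc, hwG, Category.assoc, sq.w, ← Category.assoc,
      ← Functor.map_comp, haπ, ← Category.assoc, ← Category.assoc, ← Functor.map_comp, ← Functor.map_comp,
      pullback.condition]
  refine ⟨W, w, wG, ?_⟩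
  let μ : (yon S).obj W ⟶ pullback f t := pullback.lift wG ((yon S).map w) hw
  let ν : (yon S).obj V' ⟶ pullback f t := pullback.lift vG ((yon S).map π ≫ (yon S).map e)
    (by rw [sq.w, Category.assoc])
  have sqν : IsPullback ν ((yon S).map π) (pullback.snd f t) ((yon S).map e) :=
    IsPullback.of_right (by rw [pullback.lift_fst]; exact sq) (pullback.lift_snd _ _ _)
      (IsPullback.of_hasPullback f t)
  have heT : RepWith @Etale ((yon S).map e) := (repWith_yon_map_iff _ e).2 ‹Etale e.left›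
  have hsT : RepWith @Surjective ((yon S).map e) := (repWith_yon_map_iff _ e).2 ‹Surjective e.left›
  have := isLocallySurjective_of_etale_surjective (repWith_of_isPullback sqν.flip heT)
    (repWith_of_isPullback sqν.flip hsT)
  have : Epi ν := (Sheaf.isLocallySurjective_iff_epi _).1 inferInstance
  have hνμ : (yon S).map p₂ ≫ μ = (yon S).map a ≫ ν := by
    apply pullback.hom_ext
    · rw [Category.assoc, pullback.lift_fst, Category.assoc, pullback.lift_fst, hwG]
    · rw [Category.assoc, pullback.lift_snd, Category.assoc, pullback.lift_snd, ← Functor.map_comp, ← Functor.map_comp,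
        ← Functor.map_comp, ← pullback.condition, ← Category.assoc a π, haπ]
  have : Epi ((yon S).map p₂ ≫ μ) := by rw [hνμ]; infer_instance
  have : Epi μ := epi_of_epi ((yon S).map p₂) μ
  have : Mono μ := mono_of_yon_injective fun Z x y hxy => by
    obtain ⟨x, rfl⟩ := (yon S).map_surjective x
    obtain ⟨y, rfl⟩ := (yon S).map_surjective y
    have hwxy : x ≫ w = y ≫ w := (yon S).map_injective (by
      rw [Functor.map_comp, Functor.map_comp, ← pullback.lift_snd wG ((yon S).map w) hw, ← Category.assoc,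
        hxy, Category.assoc])
    let Z' := pullback e (x ≫ w)
    let z₁ : Z' ⟶ T' := pullback.fst e (x ≫ w)
    let z₂ : Z' ⟶ Z := pullback.snd e (x ≫ w)
    have sqZ : IsPullback z₁.left z₂.left e.left (x ≫ w).left :=
      (IsPullback.of_hasPullback e (x ≫ w)).map (Over.forget S)
    have : Etale z₂.left := MorphismProperty.of_isPullback (P := @Etale) sqZ ‹Etale e.left›
    have : Surjective z₂.left := MorphismProperty.of_isPullback (P := @Surjective) sqZ ‹Surjective e.left›
    refine hom_ext_of_fppf z₂ (fppf_of_etale z₂.left) _ _ ?_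
    let x' : Z' ⟶ W' := pullback.lift z₁ (z₂ ≫ x) (by rw [Category.assoc, pullback.condition])
    let y' : Z' ⟶ W' := pullback.lift z₁ (z₂ ≫ y) (by rw [Category.assoc, ← hwxy, pullback.condition])
    have hx' : x' ≫ p₂ = z₂ ≫ x := pullback.lift_snd _ _ _
    have hy' : y' ≫ p₂ = z₂ ≫ y := pullback.lift_snd _ _ _
    have hxy' : x' = y' := by
      rw [← cancel_mono a]
      apply (yon S).map_injective
      refine sq.hom_ext ?_ ?_
      · rw [Functor.map_comp, Functor.map_comp, Category.assoc, Category.assoc, ← hwG, ← Category.assoc,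
          ← Category.assoc, ← Functor.map_comp, ← Functor.map_comp, hx', hy', Functor.map_comp, Functor.map_comp,
          Category.assoc, Category.assoc, ← pullback.lift_fst wG ((yon S).map w) hw,
          ← Category.assoc ((yon S).map x), hxy, Category.assoc]
      · rw [← Functor.map_comp, ← Functor.map_comp, Category.assoc, Category.assoc, haπ, pullback.lift_fst,
          pullback.lift_fst]
    rw [← Functor.map_comp, ← Functor.map_comp, ← hx', ← hy', hxy']
  have : IsIso μ := isIso_of_mono_of_epi μ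
  exact IsPullback.of_iso (IsPullback.of_hasPullback f t) (asIso μ).symm (Iso.refl _) (Iso.refl _) (Iso.refl _)
    (by rw [Iso.refl_hom, Category.comp_id, Iso.symm_hom, asIso_inv, IsIso.eq_inv_comp]; exact pullback.lift_fst _ _ _)
    (by rw [Iso.refl_hom, Category.comp_id, Iso.symm_hom, asIso_inv, IsIso.eq_inv_comp]; exact pullback.lift_snd _ _ _)
    (by simp) (by simp)

theorem representable_of_effective (P : MorphismProperty Scheme.{u}) [P.IsStableUnderBaseChange]
    [P.IsLocalAtTarget Scheme.fppfPrecoverage]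
    (hdesc : ∀ ⦃X' S' : Scheme.{u}⦄ (p : X' ⟶ S'), Surjective p → Flat p → LocallyOfFinitePresentation p →
      ∀ D : Desc.SchDD p, P D.obj.hom → (Desc.toDD p).essImage D)
    {U V : Over S} {q : (yon S).obj U ⟶ F} (hqe : RepWith @Etale q) (hqs : RepWith @Surjective q)
    {fst : (yon S).obj V ⟶ G} {g : V ⟶ U} (sq : IsPullback fst ((yon S).map g) f q) (hP : P g.left) :
    Representable f := by
  intro T t
  let T' := hqe.rep.pullback t
  let e : T' ⟶ T := hqe.rep.snd t
  let d : T' ⟶ U := hqe.rep.fst' t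
  have : Etale e.left := hqe.property_snd t
  have : Surjective e.left := hqs.property _ _ _ (hqe.rep.isPullback t)
  let V' := pullback g d
  have hV : IsPullback ((yon S).map (pullback.fst g d) ≫ fst) ((yon S).map (pullback.snd g d)) f ((yon S).map e ≫ t) := by
    rw [← (hqe.rep.isPullback' t).w]
    exact ((IsPullback.of_hasPullback g d).map (yon S)).paste_horiz sq
  have hπ : P (pullback.snd g d).left :=
    MorphismProperty.of_isPullback (P := P) ((IsPullback.of_hasPullback g d).map (Over.forget S)) hP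
  obtain ⟨W, w, wG, hW⟩ := exists_rep_of_effective hV
    (hdesc e.left ‹_› inferInstance inferInstance (descData hV) hπ)
  exact ⟨W, w, wG, hW⟩

end Groth.Agent.DecentElem
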