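import Groth.Agent.DecentElem.LocFree
import Groth.Agent.AlgSpQC10.PushQC
import Groth.Agent.AlgSpDec.AffineLocal
import Groth.Agent.AlgSpDec.AffineRep
import Groth.Agent.EtFound.Descent
import Groth.Agent.AlgSpLib.Descends

/-!
# Finite locally free morphisms through the direct image of the structure sheaf
-/

universe u

set_option autoImplicit false
set_option linter.style.haveILetI false
set_option backward.isDefEq.respectTransparency false
set_option backward.isDefEq.respectTransparency.types false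

open CategoryTheory CategoryTheory.Limits AlgebraicGeometry Opposite AlgSp TensorProduct Groth.Agent.QCart
  Groth.Agent.AlgSpQC10

namespace Groth.Agent.DecentElem

theorem finLocFree_eq : (finLocFree : MorphismProperty Scheme.{u}) =
      (@IsFinite ⊓ @Flat ⊓ @LocallyOfFinitePresentation : MorphismProperty Scheme.{u}) := by
  ext X Y f
  exact and_assoc.symm

theorem finLocFree_isStableUnderBaseChange : (finLocFree : MorphismProperty Scheme.{u}).IsStableUnderBaseChange := by
  refine ⟨fun {X Y Y' S f g f' g'} sq h => ?_⟩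
  exact ⟨MorphismProperty.of_isPullback (P := @IsFinite) sq h.1, MorphismProperty.of_isPullback (P := @Flat) sq h.2.1,
    MorphismProperty.of_isPullback (P := @LocallyOfFinitePresentation) sq h.2.2⟩

theorem finLocFree_isZariskiLocalAtTarget : IsZariskiLocalAtTarget (finLocFree : MorphismProperty Scheme.{u}) := by
  haveI := finLocFree_isStableUnderBaseChange.{u}
  haveI : (finLocFree : MorphismProperty Scheme.{u}).RespectsIso := MorphismProperty.IsStableUnderBaseChange.respectsIso
  refine IsZariskiLocalAtTarget.mk' (fun {X Y} f U h => ?_) (fun {X Y} f {ι} U hU h => ?_)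
  · exact MorphismProperty.of_isPullback (P := finLocFree) (isPullback_morphismRestrict f U).flip h
  · exact ⟨(IsZariskiLocalAtTarget.iff_of_iSup_eq_top (P := @IsFinite) U hU).2 fun i => (h i).1,
      (IsZariskiLocalAtTarget.iff_of_iSup_eq_top (P := @Flat) U hU).2 fun i => (h i).2.1,
      (IsZariskiLocalAtTarget.iff_of_iSup_eq_top (P := @LocallyOfFinitePresentation) U hU).2 fun i => (h i).2.2⟩

theorem finLocFree_descendsAlong :
    (finLocFree : MorphismProperty Scheme.{u}).DescendsAlong (@Surjective ⊓ @Flat ⊓ @QuasiCompact) := by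
  haveI := EtFound.fpqc_isFinite.{u}
  haveI : MorphismProperty.DescendsAlong @Flat (@Surjective ⊓ @Flat ⊓ @QuasiCompact : MorphismProperty Scheme.{u}) :=
    HasRingHomProperty.descendsAlong_flat AlgSpLib.flat_codescendsAlong_faithfullyFlat
  rw [finLocFree_eq]
  infer_instance

/-- Finite projective ring maps. -/
def FinProj {A B : Type*} [CommRing A] [CommRing B] (φ : A →+* B) : Prop :=
  φ.Finite ∧ φ.Flat ∧ φ.FinitePresentation

theorem FinProj.comp {A B D : Type*} [CommRing A] [CommRing B] [CommRing D] {φ : A →+* B} {ψ : B →+* D}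
    (hψ : FinProj ψ) (hφ : FinProj φ) : FinProj (ψ.comp φ) :=
  ⟨RingHom.Finite.comp hψ.1 hφ.1, RingHom.Flat.comp hφ.2.1 hψ.2.1, RingHom.FinitePresentation.comp hψ.2.2 hφ.2.2⟩

theorem finProj_of_bijective {A B : Type*} [CommRing A] [CommRing B] {φ : A →+* B} (h : Function.Bijective φ) :
    FinProj φ :=
  ⟨RingHom.Finite.of_surjective φ h.2, RingHom.Flat.of_bijective h, RingHom.FinitePresentation.of_bijective h⟩

theorem finProj_algebraMap_iff {A B : Type*} [CommRing A] [CommRing B] [Algebra A B] :
    FinProj (algebraMap A B) ↔ Module.Finite A B ∧ Module.Projective A B := by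
  rw [FinProj, RingHom.finite_algebraMap, RingHom.flat_algebraMap_iff, RingHom.finitePresentation_algebraMap]
  constructor
  · rintro ⟨_, _, _⟩
    haveI := Module.FinitePresentation.of_finite_of_finitePresentation A B
    exact ⟨inferInstance, Module.Flat.projective_of_finitePresentation⟩
  · rintro ⟨_, _⟩
    haveI := Module.finitePresentation_of_projective A B
    exact ⟨inferInstance, inferInstance, Algebra.FinitePresentation.of_finitePresentation A B⟩

theorem finLocFree_iff_finProj {W T : Scheme.{u}} [IsAffine W] [IsAffine T] (h : W ⟶ T) :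
    finLocFree h ↔ FinProj h.appTop.hom := by
  show IsFinite h ∧ Flat h ∧ LocallyOfFinitePresentation h ↔ _
  rw [HasAffineProperty.iff_of_isAffine (P := @IsFinite), and_iff_right (inferInstance : IsAffine W),
    HasRingHomProperty.iff_of_isAffine (P := @Flat), HasRingHomProperty.iff_of_isAffine (P := @LocallyOfFinitePresentation)]
  rfl

variable {S : Scheme.{u}} {X Y : Sp S} {f : X ⟶ Y} (hf : Representable f)

/-- The direct image of the structure sheaf. -/
noncomputable abbrev pushO : ModEt Y := (pushModEt hf).obj (unitModEt X)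

/-- The sections of the direct image are finite projective. -/
def FinProjAt (E : EtOver Y) : Prop :=
  Module.Finite ((OEt Y).obj.obj (op E)) ((psh (R := OEt Y) (pushO hf)).obj (op E)) ∧
    Module.Projective ((OEt Y).obj.obj (op E)) ((psh (R := OEt Y) (pushO hf)).obj (op E))

theorem finProjAt_iff (haff : IsAffineMor f) (E : EtOver Y) [IsAffine E.obj.left.left] :
    FinProjAt hf E ↔ finLocFree (EtOver.bcπ hf E).left := by
  haveI := isAffine_bcObj hf haff E
  rw [finLocFree_iff_finProj]
  letI : Algebra ((OEt Y).obj.obj (op E)) ((OEt X).obj.obj (op ((EtOver.bc hf).obj E))) := (bcR hf E).toAlgebra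
  have key : FinProjAt hf E ↔ FinProj (bcR hf E) :=
    Iff.trans (Iff.rfl) (finProj_algebraMap_iff (A := (OEt Y).obj.obj (op E))
      (B := (OEt X).obj.obj (op ((EtOver.bc hf).obj E)))).symm
  rw [key]
  let up₁ := (ULift.ringEquiv.{u, u + 1} (R := Γ(E.obj.left.left, ⊤)))
  let up₂ := (ULift.ringEquiv.{u, u + 1} (R := Γ((EtOver.bcObj hf E).obj.left.left, ⊤)))
  constructor
  · intro h
    exact ((finProj_of_bijective (φ := up₂.toRingHom) up₂.bijective).comp h).comp
      (finProj_of_bijective (φ := up₁.symm.toRingHom) up₁.symm.bijective)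
  · intro h
    exact ((finProj_of_bijective (φ := up₂.symm.toRingHom) up₂.symm.bijective).comp h).comp
      (finProj_of_bijective (φ := up₁.toRingHom) up₁.bijective)

theorem isCart_pushO (haff : IsAffineMor f) : (etBasis Y).IsCart (psh (R := OEt Y) (pushO hf)) :=
  haveI : (unitModEt X).IsQuasicoherent :=
    (AffBasis.isQuasicoherent_iff_isCart (R := OEt X) (etBasis X)).2 (etBasis X).isCart_unit
  isCart_pushModEt hf haff _

theorem exists_free_open (haff : IsAffineMor f) (E : EtOver Y) [IsAffine E.obj.left.left] (hE : FinProjAt hf E)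
    (x : E.obj.left.left) :
    ∃ (E' : EtOver Y) (g : E' ⟶ E) (n : ℕ), IsAff Y E' ∧ x ∈ Set.range g.hom.left.left ∧
      Nonempty (Module.Basis (Fin n) ((OEt Y).obj.obj (op E')) ((psh (R := OEt Y) (pushO hf)).obj (op E'))) := by
  haveI := hE.1
  haveI := hE.2
  let up := ULift.ringEquiv.{u, u + 1} (R := Γ(E.obj.left.left, ⊤))
  let p₀ : PrimeSpectrum Γ(E.obj.left.left, ⊤) := E.obj.left.left.isoSpec.hom x
  obtain ⟨r, hr, hfree⟩ := exists_free_nhd (A := (OEt Y).obj.obj (op E))
    ((psh (R := OEt Y) (pushO hf)).obj (op E)) (PrimeSpectrum.comap up.toRingHom p₀)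
  let D := E.obj.left.left.basicOpen r.down
  have hD : IsAff Y (AlgSpDec.etOpen E D) := (isAffineOpen_top E.obj.left.left).basicOpen r.down
  let g := AlgSpDec.etOpenι E D
  have hu : IsUnit (algebraMap ((OEt Y).obj.obj (op E)) (Rg (OEt Y).obj g) r) :=
    AlgSpDec.isUnit_map_OEt g r (AlgSpDec.isUnit_appTop_of_le_basicOpen D r.down le_rfl)
  obtain ⟨n, ⟨b⟩⟩ := hfree (Rg (OEt Y).obj g) hu
  refine ⟨_, g, n, hD, ?_, ⟨b.map (LinearEquiv.ofBijective _ (isCart_pushO hf haff ‹IsAffine E.obj.left.left› hD g))⟩⟩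
  refine (AlgSpDec.range_etOpenι E D).ge ?_
  have hx : x = (isAffineOpen_top E.obj.left.left).fromSpec p₀ := by
    rw [IsAffineOpen.fromSpec_top, ← Scheme.Hom.comp_apply, Iso.hom_inv_id]; rfl
  rw [hx]
  exact ((isAffineOpen_top E.obj.left.left).fromSpec_preimage_basicOpen r.down).ge hr

set_option maxHeartbeats 1600000 in
theorem exists_locallyFreeData (haff : IsAffineMor f) (h : ∀ E : EtOver Y, IsAff Y E → FinProjAt hf E) :
    ∃ q : SheafOfModules.LocalGeneratorsData.{u + 1} (pushO hf), q.IsLocallyFreeData ∧ q.IsFiniteType := by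
  let M := pushO hf
  let I : Type (u + 1) := { E : EtOver Y // IsAff Y E ∧ ∃ n : ℕ, Nonempty
    (Module.Basis (Fin n) ((OEt Y).obj.obj (op E)) ((psh (R := OEt Y) M).obj (op E))) }
  have hM := isCart_pushO hf haff
  have hgen : ∀ i : I, ∃ σ : (M.over i.1).GeneratingSections, IsIso σ.π ∧ σ.IsFiniteType := fun i => by
    obtain ⟨n, ⟨e⟩⟩ := i.2.2
    exact exists_generators_of_basis (R := (OEt Y).over i.1) (b := (etBasis Y).over i.1) Over.mkIdTerminal i.2.1
      (hM.over i.1) (I := ULift.{u + 1} (Fin n)) (e.reindex Equiv.ulift.symm)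
  choose σ hσ hσ' using hgen
  have hcov : (etTop Y).CoversTop fun i : I => i.1 := fun Z => by
    refine (etTop Y).transitive (dense_isAff Y Z) _ ?_
    rintro W _ ⟨A, a, q, hA, rfl⟩
    rw [Sieve.pullback_comp]
    refine (etTop Y).pullback_stable a ?_
    haveI : IsAffine A.obj.left.left := hA
    choose E' g n hE' hx hb using fun x => exists_free_open hf haff A (h A hA) x
    refine (etTop Y).superset_covering ?_ (AlgSp.ofArrows_mem_etTop E' g fun x => ⟨x, hx x⟩)
    intro V v hv
    obtain ⟨x, k, rfl⟩ := (Sieve.mem_ofArrows_iff _ _ _).1 hv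
    exact (Sieve.mem_ofObjects_iff ..).2 ⟨⟨E' x, hE' x, n x, hb x⟩, ⟨k⟩⟩
  let q : SheafOfModules.LocalGeneratorsData.{u + 1} (pushO hf) :=
    SheafOfModules.LocalGeneratorsData.mk (M := pushO hf) I (fun i => i.1) hcov σ
  refine ⟨q, ?_, ?_⟩
  · constructor
    exact hσ
  · constructor
    exact hσ'

theorem exists_fg_range {A B N : Type (u + 1)} [CommRing A] [CommRing B] [Algebra A B] [AddCommGroup N] [Module A N]
    (z : B ⊗[A] N) : ∃ N₀ : Submodule A N, N₀.FG ∧ z ∈ LinearMap.range (N₀.subtype.lTensor B) := by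
  induction z using TensorProduct.induction_on with
  | zero => exact ⟨⊥, Submodule.fg_bot, zero_mem _⟩
  | tmul t x => exact ⟨A ∙ x, Submodule.fg_span_singleton x, t ⊗ₜ ⟨x, Submodule.mem_span_singleton_self x⟩, rfl⟩
  | add z z' h h' =>
    obtain ⟨P, hP, v, rfl⟩ := h
    obtain ⟨P', hP', v', rfl⟩ := h'
    refine ⟨P ⊔ P', hP.sup hP', (Submodule.inclusion le_sup_left).lTensor B v + (Submodule.inclusion le_sup_right).lTensor B v', ?_⟩
    rw [map_add, ← LinearMap.comp_apply, ← LinearMap.comp_apply, ← LinearMap.lTensor_comp, ← LinearMap.lTensor_comp]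
    rfl

/-- Finite projectivity of sections descends along finite covers. -/
theorem finProjAt_of_cover (haff : IsAffineMor f) {E : EtOver Y} (hE : IsAff Y E)
    (c : Cover (etTop Y) (OEt Y).obj (IsAff Y) E) (h : ∀ i, FinProjAt hf (c.Z i)) : FinProjAt hf E := by
  classical
  let A := (OEt Y).obj.obj (op E)
  let N := (psh (R := OEt Y) (pushO hf)).obj (op E)
  let e := fun i => LinearEquiv.ofBijective _ (isCart_pushO hf haff hE (c.aff_Z i) (c.m i))
  haveI : ∀ i, Module.Flat A (Rg (OEt Y).obj (c.m i)) := fun i => algebraMap_flat Y hE (c.aff_Z i) _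
  have hfin : ∀ i, Module.Finite (Rg (OEt Y).obj (c.m i)) (Rg (OEt Y).obj (c.m i) ⊗[A] N) := fun i =>
    haveI : Module.Finite (Rg (OEt Y).obj (c.m i)) (Sec (psh (R := OEt Y) (pushO hf)) (c.m i)) := (h i).1
    Module.Finite.equiv (e i).symm
  refine ⟨?_, projective_of_family (fun i => Rg (OEt Y).obj (c.m i)) c.ff fun i =>
    haveI : Module.Projective (Rg (OEt Y).obj (c.m i)) (Sec (psh (R := OEt Y) (pushO hf)) (c.m i)) := (h i).2
    Module.Projective.of_equiv (e i).symm⟩
  choose s hs using fun i => (hfin i).fg_top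
  choose P hP hzP using fun p : Σ i, ↥(s i) => exists_fg_range (p.2 : Rg (OEt Y).obj (c.m p.1) ⊗[A] N)
  let P₀ : Submodule A N := ⨆ p, P p
  have hP₀ : P₀.FG := Submodule.fg_iSup P hP
  suffices P₀ = ⊤ from Module.finite_def.2 (this ▸ hP₀)
  refine eq_top_iff.2 fun x _ => ?_
  have hx := mem_range_of_cover c P₀.subtype x fun i => by
    suffices ∀ z ∈ Submodule.span (Rg (OEt Y).obj (c.m i)) ((s i : Set (Rg (OEt Y).obj (c.m i) ⊗[A] N))),
        z ∈ LinearMap.range (P₀.subtype.lTensor (Rg (OEt Y).obj (c.m i))) from this _ ((hs i).ge trivial)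
    intro z hz
    induction hz using Submodule.span_induction with
    | mem z hz =>
      obtain ⟨v, hv⟩ := hzP ⟨i, z, hz⟩
      refine ⟨(Submodule.inclusion (le_iSup P ⟨i, z, hz⟩)).lTensor _ v, ?_⟩
      rw [← LinearMap.comp_apply, ← LinearMap.lTensor_comp]
      exact hv
    | zero => exact zero_mem _
    | add _ _ _ _ h₁ h₂ => exact add_mem h₁ h₂
    | smul t z _ hz =>
      obtain ⟨v, rfl⟩ := hz
      exact ⟨t • v, ((TensorProduct.AlgebraTensorModule.map (LinearMap.id : Rg (OEt Y).obj (c.m i) →ₗ[Rg (OEt Y).obj (c.m i)] _)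
        P₀.subtype).map_smul t v)⟩
  obtain ⟨y, rfl⟩ := hx
  exact y.2

set_option maxHeartbeats 1600000 in
theorem finProjAt_of_data (haff : IsAffineMor f) (q : SheafOfModules.LocalGeneratorsData.{u + 1} (pushO hf))
    [q.IsLocallyFreeData] [q.IsFiniteType] {E : EtOver Y} (hE : IsAff Y E) : FinProjAt hf E := by
  obtain ⟨c, hc⟩ := (etBasis Y).cover hE _ (q.coversTop E)
  refine finProjAt_of_cover hf haff hE c fun k => ?_
  obtain ⟨i, ⟨u⟩⟩ := (Sieve.mem_ofObjects_iff ..).1 (hc k)
  haveI : (q.generators i).IsFiniteType := SheafOfModules.LocalGeneratorsData.IsFiniteType.isFiniteType i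
  haveI := ‹q.IsLocallyFreeData›.isIso i
  exact finite_projective_of_free (R := (OEt Y).over (q.X i)) (b := (etBasis Y).over (q.X i))
    (asIso (q.generators i).π) (A := Over.mk u) (c.aff_Z k)

/-- Finite locally free morphisms are the affine ones with finite locally free direct image. -/
theorem isFinLocFreeMor_iff (hY : IsAlgSpace Y) :
    IsFinLocFreeMor f ↔ IsAffineMor f ∧
      ∃ q : SheafOfModules.LocalGeneratorsData.{u + 1} (pushO hf), q.IsLocallyFreeData ∧ q.IsFiniteType := by
  haveI := finLocFree_isStableUnderBaseChange.{u}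
  haveI := finLocFree_isZariskiLocalAtTarget.{u}
  haveI := finLocFree_descendsAlong.{u}
  have hle : (finLocFree : MorphismProperty Scheme.{u}) ≤ @IsAffineHom := fun _ _ g hg => by
    haveI : IsFinite g := hg.1
    exact inferInstanceAs (IsAffineHom g)
  constructor
  · intro h
    have haff := AlgSpDec.isAffineMor_of_repWith hle h
    refine ⟨haff, exists_locallyFreeData hf haff fun E hE => ?_⟩
    haveI : IsAffine E.obj.left.left := hE
    exact (finProjAt_iff hf haff E).2 (h.property _ _ _ (EtOver.isPullback_bcObj hf E))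
  · rintro ⟨haff, q, hq, hq'⟩
    obtain ⟨U, a, ha, has⟩ := hY.atlas
    let E : EtOver Y := EtOver.mk a ha
    refine AlgSpDec.repWith_of_etale_cover hle ha has (EtOver.isPullback_bcObj hf E) ((repWith_yon_map_iff _ _).2 ?_)
    rw [IsZariskiLocalAtTarget.iff_of_iSup_eq_top (P := finLocFree) _ (iSup_affineOpens_eq_top E.obj.left.left)]
    intro V
    let g := AlgSpDec.etOpenι E V.1
    haveI : IsAffine (AlgSpDec.etOpen E V.1).obj.left.left := V.2
    have h1 : finLocFree (EtOver.bcπ hf (AlgSpDec.etOpen E V.1)).left :=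
      (finProjAt_iff hf haff _).1 (finProjAt_of_data hf haff q V.2)
    have sq : IsPullback (EtOver.bcMap hf g).hom.left.left (EtOver.bcπ hf (AlgSpDec.etOpen E V.1)).left
        (EtOver.bcπ hf E).left V.1.ι := EtOver.isPullback_bcMap_left hf g
    rw [← (isPullback_morphismRestrict (EtOver.bcπ hf E).left V.1).flip.isoIsPullback_hom_snd _ _ sq]
    exact (MorphismProperty.cancel_left_of_respectsIso finLocFree _ _).2 h1

end Groth.Agent.DecentElem
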