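import Groth.Agent.AlgSpDec.FreeAction
import Groth.Agent.AlgSpPts.Quot
import Mathlib.FieldTheory.Galois.Basic
import Mathlib.FieldTheory.IsAlgClosed.AlgebraicClosure
import Mathlib.RingTheory.Spectrum.Prime.Homeomorph
import Mathlib.RingTheory.Jacobson.Ring

/-!
# Field valued points of quotients by free group actions
-/

set_option autoImplicit false
set_option backward.isDefEq.respectTransparency false
set_option backward.isDefEq.respectTransparency.types false

universe u

open CategoryTheory Limits AlgebraicGeometry AlgSp Groth.Agent.AlgSpLib Groth.Agent.AlgSpPts Groth.Agent.AlgSpDec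
open scoped TensorProduct IntermediateField

namespace Groth.Agent.DecentElem

variable {S : Scheme.{u}} {U : Over S}

/-- The image of a point factoring through a subfield lies in the subfield. -/
theorem range_subset_of_factor {X : Scheme.{u}} {K L : Type u} [Field K] [Field L] (j : L →+* K) {x y : X}
    (φ : X.residueField x ⟶ .of K) (ψ : X.residueField y ⟶ .of L)
    (h : Spec.map φ ≫ X.fromSpecResidueField x =
      Spec.map (CommRingCat.ofHom j) ≫ Spec.map ψ ≫ X.fromSpecResidueField y) :
    Set.range φ.hom ⊆ Set.range j := by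
  have h2 : (⟨x, φ⟩ : Σ z : X, X.residueField z ⟶ .of K) = ⟨y, ψ ≫ CommRingCat.ofHom j⟩ := by
    refine (X.SpecToEquivOfField K).symm.injective ?_
    show Spec.map φ ≫ X.fromSpecResidueField x = Spec.map (ψ ≫ CommRingCat.ofHom j) ≫ X.fromSpecResidueField y
    rw [h, Spec.map_comp, Category.assoc]
  obtain ⟨rfl, h3⟩ := Sigma.mk.inj_iff.1 h2
  obtain rfl := eq_of_heq h3
  rintro _ ⟨a, rfl⟩
  exact ⟨_, rfl⟩

theorem eq_of_tmul_eq {F K : Type u} [Field F] [Field K] [Algebra F K] {a : K}
    (h : a ⊗ₜ[F] (1 : K) = (1 : K) ⊗ₜ[F] a) : a ∈ Set.range (algebraMap F K) := by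
  by_contra ha
  have ha' : a ∉ (Submodule.span F {(1 : K)}) := fun hm => ha (by
    obtain ⟨r, hr⟩ := Submodule.mem_span_singleton.1 hm
    exact ⟨r, by rw [Algebra.algebraMap_eq_smul_one, hr]⟩)
  obtain ⟨f, hf, hle⟩ := Submodule.exists_le_ker_of_notMem ha'
  have h1 : f 1 = 0 := hle (Submodule.mem_span_singleton_self 1)
  have := congrArg (fun z => TensorProduct.lid F K (TensorProduct.map f LinearMap.id z)) h
  simp [h1, hf] at this

theorem spec_epi {K L : Type u} [Field K] [Field L] (j : L →+* K) :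
    Epi (Spec.map (CommRingCat.ofHom j)) := by
  haveI : Flat (Spec.map (CommRingCat.ofHom j)) := by
    rw [HasRingHomProperty.Spec_iff (P := @Flat)]
    letI := j.toAlgebra
    exact inferInstanceAs (Module.Flat L K)
  haveI : Surjective (Spec.map (CommRingCat.ofHom j)) :=
    ⟨fun p => ⟨IsLocalRing.closedPoint _, Subsingleton.elim _ _⟩⟩
  exact Flat.epi_of_flat_of_surjective _

/-- The spectrum of a finite field extension over `S`. -/
noncomputable abbrev ptOf {k : Type u} [Field k] (σ : Spec (CommRingCat.of k) ⟶ S) (K : Type u) [CommRing K]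
    [Algebra k K] : Over S :=
  Over.mk (Spec.map (CommRingCat.ofHom (algebraMap k K)) ≫ σ)

/-- The structure map of the spectrum of a finite extension. -/
noncomputable abbrev ptπ {k : Type u} [Field k] (σ : Spec (CommRingCat.of k) ⟶ S) (K : Type u) [CommRing K]
    [Algebra k K] : ptOf σ K ⟶ Over.mk σ :=
  Over.homMk (Spec.map (CommRingCat.ofHom (algebraMap k K)))

/-- The morphism of spectra induced by an algebra map. -/
noncomputable abbrev ptMap {k : Type u} [Field k] (σ : Spec (CommRingCat.of k) ⟶ S) {K L : Type u} [CommRing K]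
    [Algebra k K] [CommRing L] [Algebra k L] (j : L →ₐ[k] K) : ptOf σ K ⟶ ptOf σ L :=
  Over.homMk (Spec.map (CommRingCat.ofHom j.toRingHom)) (by
    show Spec.map _ ≫ Spec.map _ ≫ σ = _
    rw [← Category.assoc, ← Spec.map_comp,
      show CommRingCat.ofHom (algebraMap k L) ≫ CommRingCat.ofHom j.toRingHom = CommRingCat.ofHom (algebraMap k K)
        from CommRingCat.hom_ext j.comp_algebraMap]
    rfl)

theorem ptMap_π {k : Type u} [Field k] (σ : Spec (CommRingCat.of k) ⟶ S) {K L : Type u} [CommRing K]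
    [Algebra k K] [CommRing L] [Algebra k L] (j : L →ₐ[k] K) : ptMap σ j ≫ ptπ σ L = ptπ σ K :=
  Over.OverMorphism.ext (by
    show Spec.map _ ≫ Spec.map _ = Spec.map _
    rw [← Spec.map_comp,
      show CommRingCat.ofHom (algebraMap k L) ≫ CommRingCat.ofHom j.toRingHom = CommRingCat.ofHom (algebraMap k K)
        from CommRingCat.hom_ext j.comp_algebraMap])

theorem ptMap_id {k : Type u} [Field k] (σ : Spec (CommRingCat.of k) ⟶ S) (K : Type u) [CommRing K] [Algebra k K] :
    ptMap σ (AlgHom.id k K) = 𝟙 _ :=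
  Over.OverMorphism.ext (Spec.map_id _)

theorem ptMap_comp {k : Type u} [Field k] (σ : Spec (CommRingCat.of k) ⟶ S) {K L M : Type u} [CommRing K]
    [Algebra k K] [CommRing L] [Algebra k L] [CommRing M] [Algebra k M] (j : L →ₐ[k] K) (i : M →ₐ[k] L) :
    ptMap σ j ≫ ptMap σ i = ptMap σ (j.comp i) :=
  Over.OverMorphism.ext ((Spec.map_comp _ _).symm.trans rfl)

/-- An algebra of finite type over a field has a finite residue field. -/
theorem exists_residue {k : Type u} [Field k] {A : CommRingCat.{u}} (ψ : CommRingCat.of k ⟶ A)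
    (hA : Nonempty (PrimeSpectrum A)) (hft : ψ.hom.FiniteType) :
    ∃ (K : Type u) (_ : Field K) (_ : Algebra k K) (_ : Module.Finite k K) (ι : A ⟶ CommRingCat.of K),
      ψ ≫ ι = CommRingCat.ofHom (algebraMap k K) := by
  have := PrimeSpectrum.nonempty_iff_nontrivial.1 hA
  obtain ⟨m, hm⟩ := Ideal.exists_maximal A
  let _ := ψ.hom.toAlgebra
  have : Algebra.FiniteType k A := hft
  let _ : Field (A ⧸ m) := Ideal.Quotient.field m
  exact ⟨A ⧸ m, inferInstance, inferInstance, finite_of_finite_type_of_isJacobsonRing k (A ⧸ m),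
    CommRingCat.ofHom (Ideal.Quotient.mk m), rfl⟩

/-- Finite extensions split fppf coverings of a point. -/
theorem exists_finite_extension {k : Type u} [Field k] (σ : Spec (CommRingCat.of k) ⟶ S) {R : Sieve (Over.mk σ)}
    (hR : R ∈ J S (Over.mk σ)) :
    ∃ (K : Type u) (_ : Field K) (_ : Algebra k K) (_ : Module.Finite k K), R (ptπ σ K) := by
  rw [GrothendieckTopology.mem_over_iff] at hR
  have : (@Flat ⊓ @LocallyOfFinitePresentation : MorphismProperty Scheme.{u}).ContainsIdentities :=
    ⟨fun X => ⟨inferInstanceAs (Flat (𝟙 X)), inferInstanceAs (LocallyOfFinitePresentation (𝟙 X))⟩⟩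
  have : Scheme.fppfPrecoverage.HasIsos :=
    inferInstanceAs (Scheme.precoverage (@Flat ⊓ @LocallyOfFinitePresentation)).HasIsos
  have : Scheme.fppfPrecoverage.HasPullbacks := ⟨fun {X} R f hR => inferInstance⟩
  obtain ⟨Rp, hRp, hle⟩ := Precoverage.mem_toGrothendieck_iff_of_isStableUnderComposition.1 hR
  obtain ⟨hsurj, hP⟩ := hRp
  rw [Scheme.jointlySurjectivePrecoverage, Presieve.mem_comap_jointlySurjectivePrecoverage_iff] at hsurj
  obtain ⟨Y, g, hg, y, -⟩ := hsurj (IsLocalRing.closedPoint k : PrimeSpectrum k)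
  obtain ⟨i, z, -⟩ := Y.affineCover.exists_eq y
  have := (hP hg).2
  obtain ⟨ψ, hψ⟩ := Spec.map_surjective (Y.affineCover.f i ≫ g)
  have hft : LocallyOfFiniteType (Spec.map ψ) := by rw [hψ]; infer_instance
  rw [HasRingHomProperty.Spec_iff (P := @LocallyOfFiniteType)] at hft
  obtain ⟨K, _, _, _, ι, hι⟩ := exists_residue ψ ⟨z⟩ hft
  refine ⟨K, inferInstance, inferInstance, inferInstance, ?_⟩
  have hfac : (ptπ σ K).left = (Spec.map ι ≫ Y.affineCover.f i) ≫ g := by
    rw [Category.assoc, ← hψ, ← Spec.map_comp, hι]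
    rfl
  have h1 : Sieve.overEquiv _ R (ptπ σ K).left := by
    rw [hfac]
    exact (Sieve.overEquiv _ R).downward_closed (hle _ _ hg) _
  exact (Sieve.overEquiv_iff R _).1 h1

variable {G : Type u} [Group G] {ρ : G →* Aut U}
  (hfree : ∀ (g : G) (x : U.left), g ≠ 1 →
    U.left.fromSpecResidueField x ≫ (ρ g).hom.left ≠ U.left.fromSpecResidueField x)
  {c : Cofan (fun _ : G => U)} (hc : IsColimit c) {s t : c.pt ⟶ U}
  (hs : ∀ g, c.inj g ≫ s = 𝟙 U) (ht : ∀ g, c.inj g ≫ t = (ρ g).hom)
include hfree hc hs ht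

/-- Two points with the same image differ by a group element when the source is a point. -/
theorem exists_translate {Z : Over S} [Subsingleton Z.left] (z : Z.left) (a b : Z ⟶ U)
    (h : (yon S).map a ≫ quotMap s t = (yon S).map b ≫ quotMap s t) : ∃ g, a = b ≫ (ρ g).hom := by
  have heq := (FreeAction.isEtaleEqvRel hfree hc hs ht).toIsEqvRel
  obtain ⟨r, hr⟩ := (yon S).map_surjective ((isPullback_quotMap heq).lift _ _ h)
  have hrt : r ≫ t = a := (yon S).map_injective (by rw [Functor.map_comp, hr, IsPullback.lift_fst])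
  have hrs : r ≫ s = b := (yon S).map_injective (by rw [Functor.map_comp, hr, IsPullback.lift_snd])
  obtain ⟨g, v, hv⟩ := FreeAction.exists_inj hc (r.left z)
  haveI := FreeAction.isOpenImmersion_inj hc g
  have hsub : Set.range r.left ⊆ Set.range (c.inj g).left := by
    rintro _ ⟨z', rfl⟩
    exact ⟨v, by rw [hv, Subsingleton.elim z' z]⟩
  let x : Z ⟶ U := Over.homMk (IsOpenImmersion.lift (c.inj g).left r.left hsub) (by
    rw [← Over.w (c.inj g), IsOpenImmersion.lift_fac_assoc]; exact Over.w r)
  have hx : x ≫ c.inj g = r := Over.OverMorphism.ext (IsOpenImmersion.lift_fac _ _ _)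
  refine ⟨g, ?_⟩
  rw [← hrt, ← hrs, ← hx]
  simp only [Category.assoc, reassoc_of% hs g, ht]

omit hc hs ht in
theorem translate_unique {Z : Over S} (z : Z.left) (b : Z ⟶ U) {g h : G}
    (e : b ≫ (ρ g).hom = b ≫ (ρ h).hom) : g = h :=
  FreeAction.eq_of_comp_eq hfree z b (congrArg (fun m : Z ⟶ U => Z.left.fromSpecResidueField z ≫ m.left) e)

theorem isSeparable_of_point {k : Type u} [Field k] {σ : Spec (CommRingCat.of k) ⟶ S}
    (ξ : (yon S).obj (Over.mk σ) ⟶ QuotSh.quot Scheme.fppfPrecoverage s t) {K : Type u} [Field K] [Algebra k K]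
    [Algebra.IsAlgebraic k K]
    (x : ptOf σ K ⟶ U) (hx : (yon S).map x ≫ quotMap s t = (yon S).map (ptπ σ K) ≫ ξ) {u₀ : U.left}
    (φ : U.left.residueField u₀ ⟶ .of K) (hφ : Spec.map φ ≫ U.left.fromSpecResidueField u₀ = x.left)
    (a : U.left.residueField u₀) : IsSeparable k (φ.hom a) := by
  rw [← mem_separableClosure_iff]
  let F := separableClosure k K
  let l₁ : K →ₐ[k] K ⊗[F] K := (Algebra.TensorProduct.includeLeft : K →ₐ[F] K ⊗[F] K).restrictScalars k
  let l₂ : K →ₐ[k] K ⊗[F] K := (Algebra.TensorProduct.includeRight : K →ₐ[F] K ⊗[F] K).restrictScalars k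
  have : Subsingleton (ptOf σ (K ⊗[F] K)).left :=
    (PrimeSpectrum.isHomeomorph_comap_of_isPurelyInseparable F K K).injective.subsingleton
  let δ : K ⊗[F] K →ₐ[k] K := (Algebra.TensorProduct.lmul' F (S := K)).restrictScalars k
  have hδ₁ : δ.comp l₁ = AlgHom.id k K := AlgHom.ext fun z => by simp [δ, l₁]
  have hδ₂ : δ.comp l₂ = AlgHom.id k K := AlgHom.ext fun z => by simp [δ, l₂]
  obtain ⟨g, hg⟩ := exists_translate hfree hc hs ht ((ptMap σ δ).left (IsLocalRing.closedPoint K : PrimeSpectrum K))
    (ptMap σ l₁ ≫ x) (ptMap σ l₂ ≫ x) (by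
      rw [Functor.map_comp, Functor.map_comp, Category.assoc, Category.assoc, hx, ← Category.assoc,
        ← Category.assoc, ← Functor.map_comp, ← Functor.map_comp, ptMap_π, ptMap_π])
  have hg1 : g = 1 := translate_unique hfree (IsLocalRing.closedPoint K : PrimeSpectrum K) x (by
    have := congrArg (ptMap σ δ ≫ ·) hg
    simp only [← Category.assoc, ptMap_comp, hδ₁, hδ₂, ptMap_id, Category.id_comp] at this
    rw [← this, map_one]
    exact (Category.comp_id _).symm)
  rw [hg1, map_one] at hg
  replace hg : ptMap σ l₁ ≫ x = ptMap σ l₂ ≫ x := hg.trans (Category.comp_id _)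
  have h2 : φ ≫ CommRingCat.ofHom l₁.toRingHom = φ ≫ CommRingCat.ofHom l₂.toRingHom := by
    apply Spec.map_injective
    rw [← cancel_mono (U.left.fromSpecResidueField u₀), Spec.map_comp, Spec.map_comp, Category.assoc,
      Category.assoc, hφ]
    exact congrArg (fun m : ptOf σ (K ⊗[F] K) ⟶ U => m.left) hg
  obtain ⟨b, hb⟩ := eq_of_tmul_eq (F := F) (K := K) (a := φ.hom a) (RingHom.congr_fun (congrArg CommRingCat.Hom.hom h2) a)
  exact hb ▸ b.2

theorem exists_galois_data {k : Type u} [Field k] {σ : Spec (CommRingCat.of k) ⟶ S}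
    (ξ : (yon S).obj (Over.mk σ) ⟶ QuotSh.quot Scheme.fppfPrecoverage s t) :
    ∃ (k' : Type u) (_ : Field k') (_ : Algebra k k') (_ : FiniteDimensional k k') (_ : IsGalois k k')
      (H : Subgroup G) (_ : Finite H) (e : H ≃* (k' ≃ₐ[k] k')) (x' : ptOf σ k' ⟶ U),
      (∀ h : H, Spec.map (CommRingCat.ofHom (e h).symm.toRingEquiv.toRingHom) ≫ x'.left =
        x'.left ≫ (ρ (h : G)).hom.left) ∧
      (yon S).map x' ≫ quotMap s t = (yon S).map (ptπ σ k') ≫ ξ := by
  have : Epi (QuotSh.quotπ Scheme.fppfPrecoverage s t) := inferInstanceAs (Epi (coequalizer.π _ _))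
  have : Epi (quotMap s t) := epi_comp _ _
  have : Sheaf.IsLocallySurjective (quotMap s t) := (Sheaf.isLocallySurjective_iff_epi _).2 inferInstance
  obtain ⟨R, hR, hlift⟩ := exists_covering_lifts (quotMap s t) ξ
  obtain ⟨K₁, _, _, _, hK₁⟩ := exists_finite_extension σ hR
  obtain ⟨l, hl⟩ := hlift _ hK₁
  obtain ⟨x₁, rfl⟩ := (yon S).map_surjective l
  -- enlarge to a normal extension
  let K := IntermediateField.normalClosure k K₁ (AlgebraicClosure K₁)
  let j₁ : K₁ →ₐ[k] K := IsScalarTower.toAlgHom k K₁ K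
  obtain ⟨x, hx⟩ : ∃ x : ptOf σ K ⟶ U, (yon S).map x ≫ quotMap s t = (yon S).map (ptπ σ K) ≫ ξ :=
    ⟨ptMap σ j₁ ≫ x₁, by
      rw [Functor.map_comp, Category.assoc, hl, ← Category.assoc, ← Functor.map_comp, ptMap_π]⟩
  obtain ⟨⟨u₀, φ⟩, hφ⟩ := (U.left.SpecToEquivOfField K).symm.surjective x.left
  replace hφ : Spec.map φ ≫ U.left.fromSpecResidueField u₀ = x.left := hφ
  -- the field of definition
  let L : IntermediateField k K := IntermediateField.adjoin k (Set.range φ.hom)
  let φL : U.left.residueField u₀ ⟶ .of L :=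
    CommRingCat.ofHom (φ.hom.codRestrict L fun a => IntermediateField.subset_adjoin k _ ⟨a, rfl⟩)
  have hxl : (ptMap σ L.val).left ≫ Spec.map φL ≫ U.left.fromSpecResidueField u₀ = x.left := by
    rw [← hφ, ← Category.assoc]
    exact congrArg (· ≫ U.left.fromSpecResidueField u₀) ((Spec.map_comp _ _).symm.trans rfl)
  have := spec_epi L.val.toRingHom
  let xL : ptOf σ L ⟶ U := Over.homMk (Spec.map φL ≫ U.left.fromSpecResidueField u₀) (by
    rw [← cancel_epi (Spec.map (CommRingCat.ofHom L.val.toRingHom))]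
    show (ptMap σ L.val).left ≫ _ ≫ U.hom = (ptMap σ L.val).left ≫ _
    rw [← Category.assoc, hxl, Over.w, Over.w])
  have hxL : ptMap σ L.val ≫ xL = x := Over.OverMorphism.ext hxl
  have : Subsingleton (ptOf σ K).left := inferInstanceAs (Subsingleton (PrimeSpectrum K))
  have : Subsingleton (ptOf σ L).left := inferInstanceAs (Subsingleton (PrimeSpectrum L))
  -- normality
  have : Normal k L := by
    rw [IntermediateField.normal_iff_forall_map_le']
    intro τ
    rw [IntermediateField.adjoin_map, IntermediateField.adjoin_le_iff]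
    obtain ⟨g, hg⟩ := exists_translate hfree hc hs ht (IsLocalRing.closedPoint K : PrimeSpectrum K)
      (ptMap σ τ.toAlgHom ≫ x) x (by
        rw [Functor.map_comp, Category.assoc, hx, ← Category.assoc, ← Functor.map_comp, ptMap_π])
    obtain ⟨⟨u', ψ⟩, hψ⟩ := (U.left.SpecToEquivOfField L).symm.surjective (xL ≫ (ρ g).hom).left
    replace hψ : Spec.map ψ ≫ U.left.fromSpecResidueField u' = (xL ≫ (ρ g).hom).left := hψ
    have hsub := range_subset_of_factor L.val.toRingHom (φ ≫ CommRingCat.ofHom τ.toAlgHom.toRingHom) ψ (by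
      rw [hψ, Spec.map_comp, Category.assoc, hφ]
      exact congrArg (fun m : ptOf σ K ⟶ U => m.left) (hg.trans (by rw [← hxL, Category.assoc])))
    rintro _ ⟨_, ⟨a, rfl⟩, rfl⟩
    obtain ⟨b, hb⟩ := hsub ⟨a, rfl⟩
    exact (show τ (φ.hom a) = (b : K) from hb.symm) ▸ b.2
  -- separability
  have : Algebra.IsSeparable k L := by
    rw [IntermediateField.isSeparable_adjoin_iff_isSeparable]
    rintro _ ⟨a, rfl⟩
    exact isSeparable_of_point hfree hc hs ht ξ x hx φ hφ a
  have : IsGalois k L := ⟨⟩
  have hxLq : (yon S).map xL ≫ quotMap s t = (yon S).map (ptπ σ L) ≫ ξ := by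
    have : fppf (ptMap σ L.val).left := by
      haveI : Flat (Spec.map (CommRingCat.ofHom L.val.toRingHom)) := by
        rw [HasRingHomProperty.Spec_iff (P := @Flat)]
        letI := L.val.toRingHom.toAlgebra
        exact inferInstanceAs (Module.Flat L K)
      haveI : Surjective (Spec.map (CommRingCat.ofHom L.val.toRingHom)) :=
        ⟨fun p => ⟨IsLocalRing.closedPoint _, Subsingleton.elim (α := PrimeSpectrum L) _ _⟩⟩
      haveI : LocallyOfFinitePresentation (Spec.map (CommRingCat.ofHom L.val.toRingHom)) := by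
        rw [HasRingHomProperty.Spec_iff (P := @LocallyOfFinitePresentation)]
        show RingHom.FinitePresentation (algebraMap L K)
        rw [RingHom.finitePresentation_algebraMap]
        exact Algebra.FinitePresentation.of_finiteType.1 inferInstance
      exact fppf_of (Spec.map (CommRingCat.ofHom L.val.toRingHom))
    refine hom_ext_of_fppf _ this _ _ ?_
    rw [← Category.assoc, ← Functor.map_comp, hxL, hx, ← Category.assoc, ← Functor.map_comp, ptMap_π]
  -- the group
  let z₀ : (ptOf σ L).left := (IsLocalRing.closedPoint L : PrimeSpectrum L)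
  have hex : ∀ τ : Gal(L/k), ∃ g, ptMap σ τ.symm.toAlgHom ≫ xL = xL ≫ (ρ g).hom := fun τ =>
    exists_translate hfree hc hs ht z₀ _ _ (by
      rw [Functor.map_comp, Category.assoc, hxLq, ← Category.assoc, ← Functor.map_comp, ptMap_π])
  choose f hf using hex
  let fhom : Gal(L/k) →* G := MonoidHom.mk' f fun a b => translate_unique hfree z₀ xL (by
    rw [← hf, FreeAction.hom_mul, ← Category.assoc, ← hf b, Category.assoc, ← hf a, ← Category.assoc, ptMap_comp]
    exact congrArg (fun j => ptMap σ j ≫ xL) (AlgHom.ext fun z => rfl))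
  have hinj : Function.Injective fhom := by
    rw [injective_iff_map_eq_one]
    intro τ hτ
    have h := hf τ
    rw [show f τ = 1 from hτ, map_one] at h
    replace h : ptMap σ τ.symm.toAlgHom ≫ xL = xL := h.trans (Category.comp_id _)
    have h' : φL ≫ CommRingCat.ofHom τ.symm.toAlgHom.toRingHom = φL := by
      apply Spec.map_injective
      rw [← cancel_mono (U.left.fromSpecResidueField u₀), Spec.map_comp, Category.assoc]
      exact congrArg (fun m : ptOf σ L ⟶ U => m.left) h
    have : (τ.symm.toAlgHom : L →ₐ[k] L) = AlgHom.id k L := by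
      refine IntermediateField.adjoin_algHom_ext k fun z hz => ?_
      obtain ⟨a, rfl⟩ := hz
      exact RingHom.congr_fun (congrArg CommRingCat.Hom.hom h') a
    exact AlgEquiv.ext fun z => by
      have := congrArg (fun m : L →ₐ[k] L => τ (m z)) this
      simpa using this.symm
  let e := (MonoidHom.ofInjective hinj).symm
  haveI : Finite fhom.range := Finite.of_equiv _ e.symm.toEquiv
  refine ⟨L, inferInstance, inferInstance, inferInstance, inferInstance, fhom.range, inferInstance, e, xL,
    fun h => ?_, hxLq⟩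
  have := hf (e h)
  rw [show f (e h) = (h : G) from congrArg Subtype.val ((MonoidHom.ofInjective hinj).apply_symm_apply h)] at this
  exact congrArg (fun m : ptOf σ L ⟶ U => m.left) this

end Groth.Agent.DecentElem
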