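import Groth.Agent.QCart.EtBasis
import Groth.Agent.QCart.Sub
import Groth.Agent.QCart.Colim
import Mathlib.RingTheory.Smooth.IntegralClosure
import Mathlib.RingTheory.RingHom.Etale

/-!
# The integral closure of the structure sheaf in a quasi-coherent sheaf of algebras
-/

universe u

set_option autoImplicit false
set_option linter.style.haveILetI false
set_option backward.isDefEq.respectTransparency false
set_option backward.isDefEq.respectTransparency.types false

open CategoryTheory CategoryTheory.Limits AlgebraicGeometry Opposite AlgSp TensorProduct Groth.Agent.QCart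

namespace Groth.Agent.DecentElem

variable {S : Scheme.{u}} {X : Sp S} {A : EtSh X CommRingCat.{u + 1}} (φ : OEt X ⟶ A)

/-- An algebra as a module. -/
noncomputable abbrev algMod : ModEt X :=
  (SheafOfModules.restrictScalars ((sheafCompose (etTop X) (forget₂ CommRingCat.{u + 1} RingCat.{u + 1})).map φ)).obj
    (SheafOfModules.unit ((sheafCompose (etTop X) (forget₂ CommRingCat.{u + 1} RingCat.{u + 1})).obj A))

/-- The structure map on the sections over an object. -/
noncomputable abbrev strHom (E : EtOver X) : (OEt X).obj.obj (op E) →+* A.obj.obj (op E) := (φ.hom.app (op E)).hom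

theorem strHom_natural {E E' : EtOver X} (g : E' ⟶ E) (a : (OEt X).obj.obj (op E)) :
    strHom φ E' (((OEt X).obj.map g.op).hom a) = (A.obj.map g.op).hom (strHom φ E a) :=
  ConcreteCategory.congr_hom (φ.hom.naturality g.op) a

theorem isIntegralElem_res {E E' : EtOver X} (g : E' ⟶ E) {x : A.obj.obj (op E)}
    (hx : (strHom φ E).IsIntegralElem x) : (strHom φ E').IsIntegralElem ((A.obj.map g.op).hom x) := by
  obtain ⟨p, hp, hpx⟩ := hx
  refine ⟨p.map ((OEt X).obj.map g.op).hom, hp.map _, ?_⟩
  rw [Polynomial.eval₂_map,
    show (strHom φ E').comp ((OEt X).obj.map g.op).hom = ((A.obj.map g.op).hom).comp (strHom φ E) from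
      RingHom.ext (strHom_natural φ g),
    ← Polynomial.hom_eval₂, hpx, map_zero]

theorem etale_comp' {R T U : Type*} [CommRing R] [CommRing T] [CommRing U] {a : R →+* T} {b : T →+* U}
    (ha : a.Etale) (hb : b.Etale) : (b.comp a).Etale := by
  letI := a.toAlgebra
  letI := b.toAlgebra
  letI := (b.comp a).toAlgebra
  haveI : IsScalarTower R T U := IsScalarTower.of_algebraMap_eq fun _ => rfl
  haveI : Algebra.Etale R T := ha
  haveI : Algebra.Etale T U := hb
  exact Algebra.Etale.comp R T U

theorem smooth_Rg {E E' : EtOver X} (hE : IsAff X E) (hE' : IsAff X E') (g : E' ⟶ E) :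
    Algebra.Smooth ((OEt X).obj.obj (op E)) (Rg (OEt X).obj g) := by
  haveI : IsAffine E.obj.left.left := hE
  haveI : IsAffine E'.obj.left.left := hE'
  haveI : Etale g.hom.left.left := EtOver.etale_left g
  have h : g.hom.left.left.appTop.hom.Etale := HasRingHomProperty.appTop @Etale _ ‹_›
  let up₁ := (ULift.ringEquiv.{u, u + 1} (R := Γ(E.obj.left.left, ⊤))).toRingHom
  let down₁ := (ULift.ringEquiv.{u, u + 1} (R := Γ(E'.obj.left.left, ⊤))).symm.toRingHom
  have h₁ : up₁.Etale := RingHom.Etale.of_bijective ULift.ringEquiv.bijective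
  have h₂ : down₁.Etale := RingHom.Etale.of_bijective ULift.ringEquiv.symm.bijective
  have hall : ((OEt X).obj.map g.op).hom.Etale := etale_comp' (etale_comp' h₁ h) h₂
  haveI : Algebra.Etale ((OEt X).obj.obj (op E)) (Rg (OEt X).obj g) := hall
  infer_instance

variable (hA : (etBasis X).IsCart (psh (R := OEt X) (algMod φ)))
include hA

theorem mem_range_integralClosure {E E' : EtOver X} (hE : IsAff X E) (hE' : IsAff X E') (g : E' ⟶ E)
    (z : Rg (OEt X).obj g ⊗[(OEt X).obj.obj (op E)] (psh (R := OEt X) (algMod φ)).obj (op E))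
    (hz : (strHom φ E').IsIntegralElem (bcMap g (psh (R := OEt X) (algMod φ)) z : A.obj.obj (op E')))
    (T : Submodule ((OEt X).obj.obj (op E)) ((psh (R := OEt X) (algMod φ)).obj (op E)))
    (hT : ∀ x : A.obj.obj (op E), (strHom φ E).IsIntegralElem x → (show (psh (R := OEt X) (algMod φ)).obj (op E) from x) ∈ T) :
    z ∈ LinearMap.range (T.subtype.lTensor (Rg (OEt X).obj g)) := by
  let R := (OEt X).obj.obj (op E)
  let R' := Rg (OEt X).obj g
  let B : Type (u + 1) := A.obj.obj (op E)
  let B' : Type (u + 1) := A.obj.obj (op E')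
  haveI : Algebra.Smooth R R' := smooth_Rg hE hE' g
  letI : Algebra R B := (strHom φ E).toAlgebra
  letI : Algebra R' B' := RingHom.toAlgebra (R := R') (S := B') (strHom φ E')
  letI : Algebra R B' := RingHom.toAlgebra (R := R) (S := B') ((algebraMap R' B').comp (algebraMap R R'))
  haveI : IsScalarTower R R' B' := IsScalarTower.of_algebraMap_eq fun _ => rfl
  let ρ : B →ₐ[R] B' := ⟨(A.obj.map g.op).hom, fun a => (strHom_natural φ g a).symm⟩
  let α : R' ⊗[R] B →ₐ[R'] B' := Algebra.TensorProduct.lift (Algebra.ofId R' B') ρ fun _ _ => mul_comm _ _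
  have hα : ∀ w : R' ⊗[R] B, α w = (bcMap g (psh (R := OEt X) (algMod φ)) w : A.obj.obj (op E')) := fun w => by
    induction w using TensorProduct.induction_on with
    | zero => rw [map_zero]; exact (map_zero (bcMap g (psh (R := OEt X) (algMod φ)))).symm
    | add w w' h h' => rw [map_add, h, h']; exact (map_add (bcMap g (psh (R := OEt X) (algMod φ))) _ _).symm
    | tmul r x =>
      rw [Algebra.TensorProduct.lift_tmul]
      exact (bcMap_tmul g (psh (R := OEt X) (algMod φ)) r x).symm
  have hinj : Function.Injective α := fun a b h => (hA hE hE' g).1 (by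
    rw [hα, hα] at h
    exact h)
  have hint : IsIntegral R' (α z) := by
    rw [hα]
    exact hz
  have hz' : (z : R' ⊗[R] B) ∈ integralClosure R' (R' ⊗[R] B) := (isIntegral_algHom_iff α hinj).1 hint
  obtain ⟨v, hv⟩ := (TensorProduct.toIntegralClosure_bijective_of_smooth (R := R) (S := R') (B := B)).2 ⟨z, hz'⟩
  let j : integralClosure R B →ₗ[R] T :=
    { toFun := fun x => ⟨x.1, hT x.1 x.2⟩
      map_add' := fun _ _ => rfl
      map_smul' := fun _ _ => rfl }
  refine ⟨j.lTensor R' v, ?_⟩
  rw [← LinearMap.comp_apply, ← LinearMap.lTensor_comp]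
  exact congrArg Subtype.val hv

/-- The integral elements on the affine objects. -/
noncomputable def intData : SubData (R := OEt X) (algMod φ) (etBasis X) where
  A E _ :=
    { carrier := {x | (strHom φ E).IsIntegralElem (x : A.obj.obj (op E))}
      add_mem' := fun hx hy => hx.add _ hy
      zero_mem' := (strHom φ E).isIntegralElem_zero
      smul_mem' := fun a x hx => ((strHom φ E).isIntegralElem_map (x := a)).mul _ hx }
  res_mem _ _ _ _ g x hx := isIntegralElem_res φ g hx
  local_mem E hE c x h := by
    let T : Submodule ((OEt X).obj.obj (op E)) ((psh (R := OEt X) (algMod φ)).obj (op E)) :=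
      { carrier := {x | (strHom φ E).IsIntegralElem (x : A.obj.obj (op E))}
        add_mem' := fun hx hy => hx.add _ hy
        zero_mem' := (strHom φ E).isIntegralElem_zero
        smul_mem' := fun a x hx => ((strHom φ E).isIntegralElem_map (x := a)).mul _ hx }
    have := mem_range_of_cover c T.subtype x fun i =>
      mem_range_integralClosure φ hA hE (c.aff_Z i) (c.m i) _ (by
        rw [bcMap_tmul, one_smul]
        exact h i) T fun x hx => hx
    obtain ⟨y, rfl⟩ := this
    exact y.2

omit hA in
/-- The integral sections over an object. -/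
noncomputable def intSubring (W : EtOver X) : Subring (A.obj.obj (op W)) where
  carrier := {s | ∀ ⦃E : EtOver X⦄ (_ : IsAff X E) (f : E ⟶ W), (strHom φ E).IsIntegralElem ((A.obj.map f.op).hom s)}
  mul_mem' := fun {x y} hx hy E hE f => by rw [map_mul]; exact (hx hE f).mul _ (hy hE f)
  one_mem' := fun E hE f => by rw [map_one]; exact (strHom φ E).isIntegralElem_one
  add_mem' := fun {x y} hx hy E hE f => by rw [map_add]; exact (hx hE f).add _ (hy hE f)
  zero_mem' := fun E hE f => by rw [map_zero]; exact (strHom φ E).isIntegralElem_zero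
  neg_mem' := fun {x} hx E hE f => by rw [map_neg]; exact (hx hE f).neg _

/-- The presheaf of integral sections. -/
noncomputable def intPre : (EtOver X)ᵒᵖ ⥤ CommRingCat.{u + 1} where
  obj W := CommRingCat.of (intSubring φ W.unop)
  map {W W'} f := CommRingCat.ofHom (((A.obj.map f).hom.restrict (intSubring φ W.unop) (intSubring φ W'.unop))
    fun s hs => (intData φ hA).sres_mem f.unop (s := s) hs)
  map_id W := CommRingCat.hom_ext (RingHom.ext fun s => Subtype.ext (ConcreteCategory.congr_hom (A.obj.map_id W) s.1))
  map_comp f g := CommRingCat.hom_ext (RingHom.ext fun s => Subtype.ext (ConcreteCategory.congr_hom (A.obj.map_comp f g) s.1))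

/-- The two presheaves of sets agree. -/
noncomputable def intPreIso : intPre φ hA ⋙ CategoryTheory.forget CommRingCat.{u + 1} ≅
    (intData φ hA).ab ⋙ CategoryTheory.forget AddCommGrpCat.{u + 1} :=
  NatIso.ofComponents (fun _ => Iso.refl _) fun _ => rfl

theorem isSheaf_intPre : Presheaf.IsSheaf (etTop X) (intPre φ hA) :=
  (Presheaf.isSheaf_iff_isSheaf_forget (etTop X) _ (CategoryTheory.forget CommRingCat.{u + 1})).2
    ((Presheaf.isSheaf_of_iso_iff (intPreIso φ hA)).2
      ((Presheaf.isSheaf_iff_isSheaf_forget (etTop X) _ (CategoryTheory.forget AddCommGrpCat.{u + 1})).1 (intData φ hA).isSheaf))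

/-- The integral closure as a sheaf of rings. -/
noncomputable def intSh : EtSh X CommRingCat.{u + 1} := ⟨intPre φ hA, isSheaf_intPre φ hA⟩

/-- The inclusion of the integral closure. -/
noncomputable def intι : intSh φ hA ⟶ A :=
  ObjectProperty.homMk
    { app := fun W => CommRingCat.ofHom (intSubring φ W.unop).subtype
      naturality := fun _ _ _ => rfl }

/-- The structure map of the integral closure. -/
noncomputable def intφ : OEt X ⟶ intSh φ hA :=
  ObjectProperty.homMk
    { app := fun W => CommRingCat.ofHom ((φ.hom.app W).hom.codRestrict (intSubring φ W.unop) fun a E hE f => by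
        rw [show (A.obj.map f.op).hom ((φ.hom.app W).hom a) = strHom φ E (((OEt X).obj.map f.op).hom a) from
          (strHom_natural φ f a).symm]
        exact (strHom φ E).isIntegralElem_map)
      naturality := fun W W' f => CommRingCat.hom_ext (RingHom.ext fun a => Subtype.ext
        (ConcreteCategory.congr_hom (φ.hom.naturality f) a)) }

/-- The integral closure as a module. -/
noncomputable def intModIso : (intData φ hA).shf ≅ algMod (intφ φ hA) :=
  (SheafOfModules.fullyFaithfulForget (OEtRing X)).preimageIso
    (PresheafOfModules.isoMk (fun W => LinearEquiv.toModuleIso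
      (X₁ := (intData φ hA).pre.obj W) (X₂ := (algMod (intφ φ hA)).val.obj W)
      { toFun := fun s => s
        invFun := fun s => s
        left_inv := fun _ => rfl
        right_inv := fun _ => rfl
        map_add' := fun _ _ => rfl
        map_smul' := fun _ _ => rfl }) fun _ _ _ => rfl)

theorem isQuasicoherent_intMod : (algMod (intφ φ hA)).IsQuasicoherent := by
  refine (isQuasicoherent_iff X _).2 (AffBasis.IsCart.of_iso (R := OEt X) (b := etBasis X) ?_ (intModIso φ hA))
  exact (intData φ hA).isCart hA fun E E' hE hE' g z hz =>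
    mem_range_integralClosure φ hA hE hE' g z hz _ fun x hx => hx

end Groth.Agent.DecentElem
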