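import Groth.Agent.QCart.ProjFree
import Groth.Agent.QCart.ProjDescent
import Groth.Agent.AlgSpQC10.AffSections
import Mathlib.RingTheory.Spectrum.Prime.FreeLocus
import Mathlib.RingTheory.TensorProduct.Free

/-!
# Finite locally free modules on a site with affine objects
-/

universe u

set_option autoImplicit false
set_option linter.style.haveILetI false
set_option backward.isDefEq.respectTransparency false
set_option backward.isDefEq.respectTransparency.types false

open CategoryTheory Opposite TensorProduct Groth.Agent.QCart Groth.Agent.AlgSpQC10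

namespace Groth.Agent.DecentElem

/-- A finite projective module is free near every prime, also after any base change making the element a unit. -/
theorem exists_free_nhd {A : Type u} [CommRing A] (N : Type u) [AddCommGroup N] [Module A N] [Module.Finite A N]
    [Module.Projective A N] (p : PrimeSpectrum A) :
    ∃ r ∉ p.asIdeal, ∀ (B : Type u) [CommRing B] [Algebra A B], IsUnit (algebraMap A B r) →
      ∃ n : ℕ, Nonempty (Module.Basis (Fin n) B (B ⊗[A] N)) := by
  haveI := Module.finitePresentation_of_projective A N
  haveI : Module.Free (Localization.AtPrime p.asIdeal) (LocalizedModule p.asIdeal.primeCompl N) :=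
    Module.mem_freeLocus.1 ((Module.freeLocus_eq_univ (R := A) (M := N)).ge trivial)
  obtain ⟨r, hr, hfree, -⟩ := Module.FinitePresentation.exists_free_localizedModule_powers p.asIdeal.primeCompl
    (LocalizedModule.mkLinearMap p.asIdeal.primeCompl N) (Localization.AtPrime p.asIdeal)
  refine ⟨r, hr, fun B _ _ hB => ?_⟩
  rcases subsingleton_or_nontrivial B with hB' | hB'
  · haveI : Subsingleton (B ⊗[A] N) := Module.subsingleton B _
    exact ⟨0, ⟨Module.Basis.empty _⟩⟩
  let L := Localization.Away r
  letI : Algebra L B := (IsLocalization.Away.lift r hB).toAlgebra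
  haveI : IsScalarTower A L B := IsScalarTower.of_algebraMap_eq fun a => (IsLocalization.Away.lift_eq r hB a).symm
  haveI : Module.Free L (L ⊗[A] N) := Module.Free.of_equiv (LocalizedModule.equivTensorProduct (.powers r) N)
  haveI : Module.Free B (B ⊗[A] N) := Module.Free.of_equiv (AlgebraTensorModule.cancelBaseChange A L B B N)
  exact ⟨_, ⟨Module.finBasis B (B ⊗[A] N)⟩⟩

variable {C : Type (u + 1)} [Category.{u} C] [Limits.HasPullbacks C] {J : GrothendieckTopology C}
  [J.HasSheafCompose (forget₂ CommRingCat.{u + 1} RingCat.{u + 1})]
  [J.HasSheafCompose (CategoryTheory.forget AddCommGrpCat.{u + 1})]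
  [HasSheafify J AddCommGrpCat.{u + 1}] [J.WEqualsLocallyBijective AddCommGrpCat.{u + 1}]
  {R : Sheaf J CommRingCat.{u + 1}} {b : AffBasis J R.obj} {M : SheafOfModules.{u + 1} (RS R)}

/-- A cartesian module with a basis of sections over an affine terminal object is free. -/
theorem exists_generators_of_basis {T : C} (hT : Limits.IsTerminal T) (hTa : b.aff T) (hM : b.IsCart (psh M))
    {I : Type (u + 1)} [Finite I] (e : Module.Basis I (R.obj.obj (op T)) ((psh M).obj (op T))) :
    ∃ σ : M.GeneratingSections, IsIso σ.π ∧ σ.IsFiniteType := by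
  classical
  haveI := Fintype.ofFinite I
  let s : I → M.sections := fun i => globalSec hT (e i)
  let π : SheafOfModules.free I ⟶ M := M.freeHomEquiv.symm s
  have hπ : ∀ (A : C) (i : I), (phom π).app (op A) (basisAt A i) = sres (psh M) (hT.from A) (e i) := fun A i => by
    refine (app_basisAt π i A).trans ?_
    rw [show M.freeHomEquiv π = s from Equiv.apply_symm_apply _ _]
    rfl
  have hbij : ∀ A, b.aff A → Function.Bijective ((phom π).app (op A)) := fun A hA => by
    have hc := (cart_iff_isBaseChange (hT.from A) (psh M)).1 (hM hTa hA (hT.from A))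
    let eA : Module.Basis I (Rg R.obj (hT.from A)) (Sec (psh M) (hT.from A)) :=
      (Algebra.TensorProduct.basis (Rg R.obj (hT.from A)) e).map hc.equiv
    let L : (psh (SheafOfModules.free (R := RS R) I)).obj (op A) →ₗ[R.obj.obj (op A)] (psh M).obj (op A) :=
      appO (phom π) A
    have heA : ∀ i, (eA i : (psh M).obj (op A)) = L (basisAt A i) := fun i => by
      refine Eq.trans ?_ (hπ A i).symm
      rw [Module.Basis.map_apply, Algebra.TensorProduct.basis_apply, hc.equiv_tmul, one_smul]
      rfl
    refine ⟨(injective_iff_map_eq_zero L).2 fun x hx => ?_, fun y => ?_⟩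
    · obtain ⟨c, rfl⟩ := (Submodule.mem_span_range_iff_exists_fun (R.obj.obj (op A))).1
        ((b.span_basisAt (R := R) (I := I) hA).ge (Submodule.mem_top (x := x)))
      have hsum : ∑ i, (show Rg R.obj (hT.from A) from c i) • eA i = (0 : Sec (psh M) (hT.from A)) := by
        refine Eq.trans ?_ hx
        rw [map_sum]
        exact Finset.sum_congr rfl fun i _ => by rw [map_smul, ← heA]
      have hc0 := Fintype.linearIndependent_iff.1 eA.linearIndependent _ hsum
      exact Finset.sum_eq_zero fun i _ => by rw [show c i = 0 from hc0 i, zero_smul]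
    · refine ⟨∑ i, (show R.obj.obj (op A) from eA.repr (toSec _ _ y) i) • basisAt A i, ?_⟩
      show L _ = y
      rw [map_sum]
      refine Eq.trans (Finset.sum_congr rfl fun i _ => ?_) (eA.sum_repr (toSec _ _ y))
      rw [map_smul, ← heA]
  haveI : IsIso π := isIso_of_bijective_shRep b π fun W hW => by
    have := ((shRepEquiv W M).symm.bijective.comp (hbij W hW)).comp
      (shRepEquiv W (SheafOfModules.free (R := RS R) I)).bijective
    convert this using 1
    funext φ
    exact ((Equiv.symm_apply_eq _).2 (shRepEquiv_comp φ π).symm).symm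
  haveI : Epi (M.freeHomEquiv.symm s) := inferInstanceAs (Epi π)
  exact ⟨⟨I, s, inferInstance⟩, inferInstanceAs (IsIso π), ⟨‹Finite I›⟩⟩

/-- The sections of a free module with finitely many generators over an affine object are finite projective. -/
theorem finite_projective_of_free {I : Type (u + 1)} [Finite I] (e : SheafOfModules.free (R := RS R) I ≅ M) {A : C}
    (hA : b.aff A) :
    Module.Finite (R.obj.obj (op A)) ((psh M).obj (op A)) ∧ Module.Projective (R.obj.obj (op A)) ((psh M).obj (op A)) := by
  haveI : Module.Finite (R.obj.obj (op A)) ((psh (SheafOfModules.free (R := RS R) I)).obj (op A)) :=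
    Module.finite_def.2 (Submodule.fg_def.2 ⟨_, Set.finite_range _, b.span_basisAt hA⟩)
  haveI := b.projective_free (R := R) (I := I) hA
  haveI : IsIso ((SheafOfModules.evaluation (RS R) (op A)).map e.hom) := inferInstance
  let φ : (psh (SheafOfModules.free (R := RS R) I)).obj (op A) ≃ₗ[R.obj.obj (op A)] (psh M).obj (op A) :=
    LinearEquiv.ofBijective (appO (phom e.hom) A)
      (ConcreteCategory.bijective_of_isIso ((SheafOfModules.evaluation (RS R) (op A)).map e.hom))
  exact ⟨Module.Finite.equiv φ, Module.Projective.of_equiv φ⟩

end Groth.Agent.DecentElem
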