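import Groth.Agent.AlgSpLib.ThickScheme
import Groth.Agent.AlgSpLib.LocP
import Groth.Agent.AlgSpLib.EtLocalInst
import Groth.Agent.AlgSpDec.AffineRep

/-!
# Closed immersions can be tested on a closed subspace with the same points
-/

set_option autoImplicit false
set_option backward.isDefEq.respectTransparency false
set_option backward.isDefEq.respectTransparency.types false

universe u

open CategoryTheory Limits Opposite AlgebraicGeometry AlgSp Groth.Agent.AlgSpLib Groth.Agent.AlgSpDec

namespace Groth.Agent.DecentElem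

variable {S : Scheme.{u}}

/-- A map which is surjective modulo a nil ideal is surjective when it is of finite type or the ideal is finitely
generated. -/
theorem surjective_of_mod_nil {A C : Type u} [CommRing A] [CommRing C] (φ : A →+* C) {I : Ideal A}
    (hI : I ≤ nilradical A) (h : ∀ c, ∃ a, c - φ a ∈ I.map φ) (hor : φ.FiniteType ∨ I.FG) :
    Function.Surjective φ := by
  letI := φ.toAlgebra
  let N : Submodule A C := LinearMap.range (Algebra.linearMap A C)
  have hN : (⊤ : Submodule A C) ≤ N ⊔ I • (⊤ : Submodule A C) := by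
    rw [Ideal.smul_top_eq_map]
    intro c _
    obtain ⟨a, ha⟩ := h c
    exact Submodule.mem_sup.2 ⟨φ a, ⟨a, rfl⟩, c - φ a, ha, add_sub_cancel _ _⟩
  have key : (⊤ : Submodule A C) ≤ N := by
    rcases hor with hft | hfg
    · haveI : Algebra.FiniteType A C := hft
      haveI : Algebra.IsIntegral A C := ⟨fun c => by
        obtain ⟨a, ha⟩ := h c
        obtain ⟨n, hn⟩ := (Ideal.map_le_iff_le_comap.2 fun y hy => by
          rw [Ideal.mem_comap, mem_nilradical]
          exact (mem_nilradical.1 (hI hy)).map φ : I.map φ ≤ nilradical C) ha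
        refine ⟨(Polynomial.X - Polynomial.C a) ^ n, (Polynomial.monic_X_sub_C a).pow n, ?_⟩
        simp only [Polynomial.eval₂_pow, Polynomial.eval₂_sub, Polynomial.eval₂_X, Polynomial.eval₂_C]
        exact hn⟩
      haveI : Module.Finite A C := Algebra.IsIntegral.finite
      exact Submodule.le_of_le_smul_of_le_jacobson_bot Module.Finite.fg_top
        (by rw [Ideal.jacobson_bot]; exact hI.trans (nilradical_le_jacobson A)) hN
    · obtain ⟨n, hn⟩ := (Ideal.FG.isNilpotent_iff_le_nilradical hfg).2 hI
      have hk : ∀ k : ℕ, (⊤ : Submodule A C) ≤ N ⊔ I ^ k • (⊤ : Submodule A C) := by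
        intro k
        induction k with
        | zero => exact le_sup_of_le_right (by rw [pow_zero, Ideal.one_eq_top, Submodule.top_smul])
        | succ k ih =>
          refine ih.trans (sup_le le_sup_left ?_)
          refine (Submodule.smul_mono le_rfl hN).trans ?_
          rw [Submodule.smul_sup, ← Submodule.mul_smul, ← pow_succ]
          exact sup_le_sup_right Submodule.smul_le_right _
      have := hk n
      rw [hn] at this
      simpa using this
  intro c
  obtain ⟨a, ha⟩ := key (Submodule.mem_top : c ∈ ⊤)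
  exact ⟨a, ha⟩

/-- A map of affine schemes is a closed immersion when its restriction along a surjective closed immersion is one. -/
theorem isClosedImmersion_of_thick {Q Z Z' Q' : Scheme.{u}} {i : Q ⟶ Z} {c : Z' ⟶ Z} {fst : Q' ⟶ Q} {snd : Q' ⟶ Z'}
    (sq : IsPullback fst snd i c) [IsAffine Q] [IsAffine Z] [IsClosedImmersion c] [Surjective c]
    [IsClosedImmersion snd] (hor : LocallyOfFiniteType i ∨ LocallyOfFinitePresentation c) :
    IsClosedImmersion i := by
  have : IsAffine Z' := isAffine_of_isAffineHom c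
  obtain ⟨-, hc⟩ := IsClosedImmersion.isAffine_surjective_of_isAffine c
  obtain ⟨-, hs⟩ := IsClosedImmersion.isAffine_surjective_of_isAffine snd
  refine IsClosedImmersion.of_surjective_of_isAffine i (surjective_of_mod_nil i.appTop.hom
    (AlgSpLib.ker_appTop_le_nilradical c) (fun x => ?_) ?_)
  · let I := (RingHom.ker c.appTop.hom).map i.appTop.hom
    let mk : Γ(Q, ⊤) ⟶ CommRingCat.of (Γ(Q, ⊤) ⧸ I) := CommRingCat.ofHom (Ideal.Quotient.mk I)
    let ψ : Γ(Z', ⊤) ⟶ CommRingCat.of (Γ(Q, ⊤) ⧸ I) := CommRingCat.ofHom (RingHom.liftOfSurjective c.appTop.hom hc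
      ⟨(Ideal.Quotient.mk I).comp i.appTop.hom, fun y hy =>
        Ideal.Quotient.eq_zero_iff_mem.2 (Ideal.mem_map_of_mem _ hy)⟩)
    have hψ : c.appTop ≫ ψ = i.appTop ≫ mk :=
      CommRingCat.hom_ext (RingHom.liftOfRightInverse_comp _ _ (Function.rightInverse_surjInv hc) _)
    have hw : (Spec.map mk ≫ Q.isoSpec.inv) ≫ i = (Spec.map ψ ≫ Z'.isoSpec.inv) ≫ c := by
      rw [Category.assoc, Category.assoc, ← Scheme.isoSpec_inv_naturality, ← Scheme.isoSpec_inv_naturality,
        ← Spec.map_comp_assoc, ← Spec.map_comp_assoc, hψ]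
    obtain ⟨y, hy⟩ := hs (fst.appTop x)
    obtain ⟨a, rfl⟩ := hc y
    refine ⟨a, Ideal.Quotient.eq.1 ?_⟩
    let l := sq.lift _ _ hw
    have h1 : fst.appTop x = fst.appTop (i.appTop a) := by
      rw [← hy]
      exact (ConcreteCategory.congr_hom ((Scheme.Hom.comp_appTop fst i).symm.trans
        ((congrArg Scheme.Hom.appTop sq.w).trans (Scheme.Hom.comp_appTop snd c))) a).symm
    have h2 := congrArg l.appTop h1
    have hinv : Q.isoSpec.inv.appTop = (Scheme.ΓSpecIso Γ(Q, ⊤)).inv := by
      rw [← cancel_mono Q.isoSpec.hom.appTop, ← Scheme.Hom.comp_appTop]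
      simp [Scheme.isoSpec_hom]
    have h3 : fst.appTop ≫ l.appTop = mk ≫ (Scheme.ΓSpecIso _).inv := by
      rw [← Scheme.Hom.comp_appTop, sq.lift_fst, Scheme.Hom.comp_appTop, hinv, Scheme.ΓSpecIso_inv_naturality]
    exact (Scheme.ΓSpecIso (CommRingCat.of (Γ(Q, ⊤) ⧸ I))).symm.commRingCatIsoToRingEquiv.injective
      ((ConcreteCategory.congr_hom h3 x).symm.trans (h2.trans (ConcreteCategory.congr_hom h3 (i.appTop a))))
  · rcases hor with h | h
    · exact Or.inl ((HasRingHomProperty.iff_of_isAffine (P := @LocallyOfFiniteType)).1 h)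
    · letI := c.appTop.hom.toAlgebra
      have hfp : Algebra.FinitePresentation Γ(Z, ⊤) Γ(Z', ⊤) :=
        (HasRingHomProperty.iff_of_isAffine (P := @LocallyOfFinitePresentation)).1 h
      exact Or.inr (Algebra.FinitePresentation.ker_fG_of_surjective (Algebra.ofId Γ(Z, ⊤) Γ(Z', ⊤)) hc)

theorem repWith_closedImmersion_of_thick {X B B' X' : Sp S} (hX : IsAlgSpace X) (hB : IsAlgSpace B)
    (hB' : IsAlgSpace B') {f : X ⟶ B} {g : B' ⟶ B} (hg : RepWith @IsClosedImmersion g)
    (hgs : IsSurjectiveMor g) {fst : X' ⟶ X} {snd : X' ⟶ B'} (sq : IsPullback fst snd f g)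
    (hsnd : RepWith @IsClosedImmersion snd)
    (hor : LocP @LocallyOfFiniteType f ∨ LocP @LocallyOfFinitePresentation g) : RepWith @IsClosedImmersion f := by
  refine repWith_of_affine_test fun Z hZ z => ?_
  have : IsAffine Z.left := hZ
  let Z' := hg.rep.pullback z
  let c : Z' ⟶ Z := hg.rep.snd z
  let z' : (yon S).obj Z' ⟶ B' := hg.rep.fst z
  have sqZ : IsPullback z' ((yon S).map c) g z := hg.rep.isPullback z
  have hgs' : RepWith @Surjective g := (repWith_surjective_iff hg.rep).2 hgs
  have hc : IsClosedImmersion c.left := hg.property_snd z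
  have hcs : Surjective c.left := hgs'.property _ _ _ sqZ
  have : IsAffine Z'.left := isAffine_of_isAffineHom c.left
  let Q' := hsnd.rep.pullback z'
  let d : Q' ⟶ Z' := hsnd.rep.snd z'
  have sqQ : IsPullback (hsnd.rep.fst z') ((yon S).map d) snd z' := hsnd.rep.isPullback z'
  have hd : IsClosedImmersion d.left := hsnd.property_snd z'
  have : IsAffine Q'.left := isAffine_of_isAffineHom d.left
  have hP : IsAlgSpace (pullback f z) := isAlgSpace_pullback hX (IsAlgSpace.yon_obj Z) hB f z
  have sqP := IsPullback.of_hasPullback f z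
  let m : (yon S).obj Q' ⟶ pullback f z := pullback.lift (hsnd.rep.fst z' ≫ fst) ((yon S).map d ≫ (yon S).map c)
    (by rw [Category.assoc, sq.w, reassoc_of% sqQ.w, sqZ.w, Category.assoc])
  have sqm : IsPullback m ((yon S).map d) (pullback.snd f z) ((yon S).map c) := by
    refine IsPullback.of_right ?_ (pullback.lift_snd _ _ _) sqP
    rw [pullback.lift_fst, ← sqZ.w]
    exact sqQ.paste_horiz sq
  have hmt : IsThickMor m := by
    have hct : IsThickMor ((yon S).map c) := (repWith_yon_map_iff _ c).2 ⟨hc, hcs⟩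
    exact repWith_of_isPullback sqm.flip hct
  obtain ⟨Q, hQ, ⟨eQ⟩⟩ := exists_affine_of_thick hP hmt (Iso.refl _)
  obtain ⟨i, hi⟩ := (yon S).map_surjective (eQ.hom ≫ pullback.snd f z)
  refine ⟨Q, i, eQ.hom ≫ pullback.fst f z,
    IsPullback.of_iso sqP eQ.symm (Iso.refl _) (Iso.refl _) (Iso.refl _) (by simp) (by simp [hi]) (by simp) (by simp), hQ, ?_⟩
  obtain ⟨j, hj⟩ := (yon S).map_surjective (m ≫ eQ.inv)
  have sq' : IsPullback j d i c := by
    refine IsPullback.of_map (yon S) ((yon S).map_injective ?_) ?_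
    · rw [Functor.map_comp, Functor.map_comp, hj, hi, Category.assoc, Iso.inv_hom_id_assoc, sqm.w]
    · exact IsPullback.of_iso sqm (Iso.refl _) eQ.symm (Iso.refl _) (Iso.refl _)
        (by simp [hj]) (by simp) (by simp [hi]) (by simp)
  have : IsAffine Q.left := hQ
  have sq'' : IsPullback j.left d.left i.left c.left := sq'.map (Over.forget S)
  refine isClosedImmersion_of_thick sq'' (hor.imp (fun hf => ?_) fun hl => ?_)
  · have h1 := locP_of_isPullback sqP hX hB (IsAlgSpace.yon_obj Z) hf
    have h2 : RepWith @LocallyOfFiniteType (eQ.hom ≫ pullback.snd f z) := by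
      refine (RepWith (S := S) @LocallyOfFiniteType).cancel_left_of_respectsIso eQ.hom _ |>.2 ?_
      refine repWith_of_locP (IsAlgSpace.yon_obj Z) ?_ h1
      have : pullback.snd f z = eQ.inv ≫ (yon S).map i := by rw [hi, Iso.inv_hom_id_assoc]
      rw [this]
      exact MorphismProperty.comp_mem _ _ _ (repWith_of_isIso @Surjective eQ.inv).rep (representable_yon_map i)
    rw [← hi] at h2
    exact (repWith_yon_map_iff _ i).1 h2
  · exact (repWith_of_locP hB hg.rep hl).property _ _ _ sqZ

end Groth.Agent.DecentElem
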