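import Groth.Agent.AlgSpDec.MinimalNonScheme
import Groth.Agent.AlgSpDec.LimScheme
import Groth.Agent.AlgSpDec.Glue

/-!
# Maximal ideals of the base over which a space is not a scheme
-/

universe u

set_option autoImplicit false
set_option linter.style.haveILetI false
set_option backward.isDefEq.respectTransparency false
set_option backward.isDefEq.respectTransparency.types false

open CategoryTheory CategoryTheory.Limits AlgebraicGeometry Opposite AlgSp Groth.Agent.AlgSpDec
  Groth.Agent.AlgSpLib Groth.Agent.AlgSpPts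

namespace Groth.Agent.DecentElem

variable {A : CommRingCat.{u}}

/-- The closed subscheme of an ideal, over the spectrum. -/
noncomputable def closedSpec (I : Ideal A) : Over (Spec A) :=
  Over.mk (Spec.map (CommRingCat.ofHom (Ideal.Quotient.mk I)))

instance isClosedImmersion_closedSpec (I : Ideal A) : IsClosedImmersion (closedSpec I).hom :=
  IsClosedImmersion.spec_of_surjective _ Ideal.Quotient.mk_surjective

theorem closedSpec_hom_ext {T : Over (Spec A)} {I : Ideal A} (a b : T ⟶ closedSpec I) : a = b :=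
  Over.OverMorphism.ext ((cancel_mono (closedSpec I).hom).1 ((Over.w a).trans (Over.w b).symm))

/-- The inclusion of closed subschemes. -/
noncomputable def closedSpecMap {I J : Ideal A} (h : J ≤ I) : closedSpec I ⟶ closedSpec J :=
  Over.homMk (Spec.map (CommRingCat.ofHom (Ideal.Quotient.factor h))) (by
    dsimp [closedSpec]
    rw [← Spec.map_comp, ← CommRingCat.ofHom_comp, Ideal.Quotient.factor_comp_mk])

theorem exists_hom_closedSpec {T : Over (Spec A)} {I : Ideal A}
    (h : I ≤ RingHom.ker ((Scheme.ΓSpecIso A).inv ≫ T.hom.appTop).hom) : Nonempty (T ⟶ closedSpec I) := by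
  let χ : A →+* Γ(T.left, ⊤) := ((Scheme.ΓSpecIso A).inv ≫ T.hom.appTop).hom
  let ψ : A ⧸ I →+* Γ(T.left, ⊤) := Ideal.Quotient.lift I χ fun x hx => h hx
  refine ⟨Over.homMk (T.left.toSpecΓ ≫ Spec.map (CommRingCat.ofHom ψ)) ?_⟩
  show (T.left.toSpecΓ ≫ Spec.map (CommRingCat.ofHom ψ)) ≫ Spec.map (CommRingCat.ofHom (Ideal.Quotient.mk I)) = T.hom
  rw [Category.assoc, ← Spec.map_comp]
  have e : CommRingCat.ofHom (Ideal.Quotient.mk I) ≫ CommRingCat.ofHom ψ = (Scheme.ΓSpecIso A).inv ≫ T.hom.appTop := by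
    ext x
    rfl
  rw [e, Spec.map_comp, ← Scheme.toSpecΓ_naturality_assoc]
  simp

theorem le_ker_of_hom {T : Over (Spec A)} {I : Ideal A} (φ : T ⟶ closedSpec I) :
    I ≤ RingHom.ker ((Scheme.ΓSpecIso A).inv ≫ T.hom.appTop).hom := by
  intro x hx
  have e : (closedSpec I).hom.appTop ≫ φ.left.appTop = T.hom.appTop :=
    (Scheme.Hom.comp_appTop φ.left (closedSpec I).hom).symm.trans (congrArg Scheme.Hom.appTop (Over.w φ))
  have e' : (Scheme.ΓSpecIso A).inv ≫ (closedSpec I).hom.appTop =
      CommRingCat.ofHom (Ideal.Quotient.mk I) ≫ (Scheme.ΓSpecIso (CommRingCat.of (A ⧸ I))).inv :=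
    (Scheme.ΓSpecIso_inv_naturality (CommRingCat.ofHom (Ideal.Quotient.mk I))).symm
  rw [RingHom.mem_ker, ← e, ← Category.assoc, e']
  show φ.left.appTop ((Scheme.ΓSpecIso (CommRingCat.of (A ⧸ I))).inv (Ideal.Quotient.mk I x)) = 0
  rw [Ideal.Quotient.eq_zero_iff_mem.2 hx]
  exact (congrArg _ (map_zero _)).trans (map_zero _)

theorem exists_nonscheme_ideal (X : Space (Spec A)) (q : X.obj ⟶ (yon (Spec A)).obj (Over.mk (𝟙 (Spec A))))
    (hXqc : IsQuasiCompactSp X.obj) (hXqs : IsQuasiSeparatedSp X.obj) (hX : ¬ X.obj.obj.IsRepresentable) :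
    ∃ I : Ideal A,
      (∀ (P : Sp (Spec A)) (fst : P ⟶ X.obj) (snd : P ⟶ (yon (Spec A)).obj (closedSpec I)),
        IsPullback fst snd q ((yon (Spec A)).map (Over.homMk (closedSpec I).hom)) → ¬ P.obj.IsRepresentable) ∧
      ∀ I' : Ideal A, I < I' → ∀ (P : Sp (Spec A)) (fst : P ⟶ X.obj) (snd : P ⟶ (yon (Spec A)).obj (closedSpec I')),
        IsPullback fst snd q ((yon (Spec A)).map (Over.homMk (closedSpec I').hom)) → P.obj.IsRepresentable := by
  classical
  let Bad : Set (Ideal A) := {I | ∀ (P : Sp (Spec A)) (fst : P ⟶ X.obj) (snd : P ⟶ (yon (Spec A)).obj (closedSpec I)),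
    IsPullback fst snd q ((yon (Spec A)).map (Over.homMk (closedSpec I).hom)) → ¬ P.obj.IsRepresentable}
  have hrep : ∀ {P Q : Sp (Spec A)}, (P ≅ Q) → P.obj.IsRepresentable → Q.obj.IsRepresentable := fun e h => by
    obtain ⟨T, ⟨r⟩⟩ := h.has_representation
    exact isRepresentable_of_iso (AlgSp.isoOfRepresentableBy r ≪≫ e)
  have hbot : (⊥ : Ideal A) ∈ Bad := fun P fst snd sq hP => by
    haveI : IsIso (closedSpec (⊥ : Ideal A)).hom := by
      haveI : IsIso (CommRingCat.ofHom (Ideal.Quotient.mk (⊥ : Ideal A))) :=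
        (ConcreteCategory.isIso_iff_bijective _).2 ⟨(RingHom.injective_iff_ker_eq_bot _).2 Ideal.mk_ker,
          Ideal.Quotient.mk_surjective⟩
      exact inferInstanceAs (IsIso (Spec.map _))
    haveI : IsIso (Over.homMk (closedSpec (⊥ : Ideal A)).hom : closedSpec (⊥ : Ideal A) ⟶ Over.mk (𝟙 (Spec A))) :=
      (Over.isoMk (asIso (closedSpec (⊥ : Ideal A)).hom) (by simp) : closedSpec (⊥ : Ideal A) ≅ Over.mk (𝟙 (Spec A))).isIso_hom
    haveI := sq.isIso_fst_of_isIso
    exact hX (hrep (asIso fst) hP)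
  have hz := zorn_le_nonempty₀ Bad (fun C hC hch J₀ hJ₀ => by
    let C' := insert ⊥ C
    have hC' : C' ⊆ Bad := Set.insert_subset hbot hC
    have hch' : IsChain (· ≤ ·) C' := hch.insert fun J _ _ => Or.inl bot_le
    let J' := (↥C')ᵒᵈ
    have hdir : IsCodirectedOrder J' := ⟨fun x y => by
      rcases hch'.total (OrderDual.ofDual x).2 (OrderDual.ofDual y).2 with h | h
      · exact ⟨y, (show (OrderDual.ofDual x : ↥C') ≤ OrderDual.ofDual y from h), le_rfl⟩
      · exact ⟨x, le_rfl, (show (OrderDual.ofDual y : ↥C') ≤ OrderDual.ofDual x from h)⟩⟩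
    let j₀ : J' := OrderDual.toDual ⟨⊥, Set.mem_insert _ _⟩
    have : Nonempty J' := ⟨j₀⟩
    let K : Ideal A := sSup C'
    let F : J' ⥤ Over (Spec A) :=
      { obj := fun j => closedSpec (OrderDual.ofDual j).1
        map := fun {j k} f => closedSpecMap (leOfHom f : OrderDual.ofDual k ≤ OrderDual.ofDual j)
        map_id := fun j => closedSpec_hom_ext _ _
        map_comp := fun f g => closedSpec_hom_ext _ _ }
    let cF : Cone F :=
      { pt := closedSpec K
        π := { app := fun j => closedSpecMap (le_sSup (OrderDual.ofDual j).2)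
               naturality := fun j k f => closedSpec_hom_ext _ _ } }
    have hlift : ∀ s : Cone F, Nonempty (s.pt ⟶ closedSpec K) := fun s =>
      exists_hom_closedSpec (sSup_le fun J hJ => le_ker_of_hom (s.π.app (OrderDual.toDual ⟨J, hJ⟩)))
    have hcF : IsLimit cF :=
      { lift := fun s => (hlift s).some
        fac := fun s j => closedSpec_hom_ext _ _
        uniq := fun s l _ => closedSpec_hom_ext _ _ }
    let D := F ⋙ yon (Spec A)
    let cD := (yon (Spec A)).mapCone cF
    have hcD : IsLimit cD := isLimitOfPreserves (yon (Spec A)) hcF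
    let T₀ : Over (Spec A) := closedSpec (OrderDual.ofDual j₀).1
    let ι : ∀ I : Ideal A, (yon (Spec A)).obj (closedSpec I) ⟶ (yon (Spec A)).obj (Over.mk (𝟙 (Spec A))) :=
      fun I => (yon (Spec A)).map (Over.homMk (closedSpec I).hom)
    obtain ⟨φ₀⟩ := exists_hom_closedSpec (T := Over.mk (𝟙 (Spec A))) (I := (OrderDual.ofDual j₀).1) bot_le
    haveI hι : IsIso (ι (OrderDual.ofDual j₀).1) :=
      ⟨(yon (Spec A)).map φ₀, by rw [← Functor.map_comp, closedSpec_hom_ext (_ ≫ φ₀) (𝟙 _)]; exact CategoryTheory.Functor.map_id _ _,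
        by
          rw [← Functor.map_comp, show φ₀ ≫ Over.homMk (closedSpec (OrderDual.ofDual j₀).1).hom = 𝟙 _ from
            Over.OverMorphism.ext ((Over.w φ₀).trans rfl)]
          exact CategoryTheory.Functor.map_id _ _⟩
    have hιc : ∀ (I : Ideal A) (m : closedSpec I ⟶ T₀), ι I = (yon (Spec A)).map m ≫ ι (OrderDual.ofDual j₀).1 :=
      fun I m => by
        rw [← Functor.map_comp]
        exact congrArg (yon (Spec A)).map (Over.OverMorphism.ext (Over.w m).symm)
    let g₀ : X.obj ⟶ D.obj j₀ := q ≫ inv (ι (OrderDual.ofDual j₀).1)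
    have sX := IsPullback.of_hasPullback g₀ (cD.π.app j₀)
    obtain ⟨E, cE, hcE, eE, v, w, squ, sqm⟩ := exists_pullback_system D cD hcD g₀ sX
    refine ⟨K, fun P fst snd sq hP => ?_, fun J hJ => le_sSup (Set.mem_insert_of_mem _ hJ)⟩
    have hcl : ∀ {i j : J'} (φ : i ⟶ j), RepWith @IsAffineHom (D.map φ) := fun {i j} φ => by
      refine (repWith_yon_map_iff _ _).2 ?_
      have hw : (F.map φ).left ≫ (F.obj j).hom = (F.obj i).hom := Over.w (F.map φ)
      haveI : IsClosedImmersion ((F.map φ).left ≫ (F.obj j).hom) := by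
        rw [hw]; exact isClosedImmersion_closedSpec _
      haveI : IsClosedImmersion (F.obj j).hom := isClosedImmersion_closedSpec _
      haveI := IsClosedImmersion.of_comp (F.map φ).left (F.obj j).hom
      exact (inferInstance : IsAffineHom (F.map φ).left)
    have hv : ∀ o, RepWith @IsAffineHom (v o) := fun o => repWith_of_isPullback (squ o).flip (hcl o.hom)
    have eP : P ≅ cE.pt := by
      refine IsPullback.isoIsPullback _ _ (fst := fst) (snd := snd) ?_ sX ≪≫ eE.symm
      refine sq.of_iso (Iso.refl _) (Iso.refl _) (Iso.refl _) (asIso (ι (OrderDual.ofDual j₀).1)).symm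
        (by simp) (by simp) ?_ ?_
      · simp [g₀]
      · dsimp [cD]
        rw [Category.id_comp, IsIso.comp_inv_eq]
        exact hιc K _
    obtain ⟨T, ⟨r⟩⟩ := (hrep eP hP).has_representation
    obtain ⟨o, ho⟩ := exists_isRepresentable_stage E (fun o => isAlgSpace_of_representable X.property _ (hv o).rep)
      (fun o o' φ => isAffineMor_of_isPullback (sqm φ) (isAffineMor_of_repWith le_rfl (hcl φ.left)))
      (fun o => isQuasiCompactSp_of_affine X.property _ (hv o) hXqc)
      (fun o => isQuasiSeparatedSp_of_affine _ (hv o) hXqs) cE hcE (AlgSp.isoOfRepresentableBy r)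
    refine hC' (OrderDual.ofDual o.left).2 (E.obj o) (v o) (w o) ?_ ho
    refine (squ o).of_iso (Iso.refl _) (Iso.refl _) (Iso.refl _) (asIso (ι (OrderDual.ofDual j₀).1))
      (by simp) (by simp) ?_ ?_
    · simp [g₀]
    · dsimp [D]
      rw [Category.id_comp]
      exact (hιc _ _).symm) ⊥ hbot
  obtain ⟨I, -, hI, hmax⟩ := hz
  refine ⟨I, hI, fun I' hlt P fst snd sq => by_contra fun hP => hlt.not_ge (hmax (fun P' fst' snd' sq' hP' => ?_) hlt.le)⟩
  exact hP (hrep (sq'.isoIsPullback _ _ sq) hP')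

end Groth.Agent.DecentElem
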