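import Groth.Agent.AlgSpQC10.PushQC
import Groth.Agent.AlgSpPts.SepDescent
import Groth.Agent.QCart.Local

/-!
# Direct images of quasi-coherent modules along quasi-compact quasi-separated representable morphisms
-/

universe u v w

set_option autoImplicit false
set_option linter.style.haveILetI false
set_option backward.isDefEq.respectTransparency false
set_option backward.isDefEq.respectTransparency.types false

open CategoryTheory CategoryTheory.Limits AlgebraicGeometry Opposite AlgSp TensorProduct Groth.Agent.QCart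
  Groth.Agent.AlgSpQC10

namespace Groth.Agent.DecentElem

/-- Flat base change of sections given by a finite equalizer. -/
theorem bijective_of_equalizer {A B : Type w} [CommRing A] [CommRing B] [Algebra A B] [Module.Flat A B]
    {J K : Type} [Finite J] [Finite K] (jl jr : K → J)
    {N : Type w} [AddCommGroup N] [Module A N] {NJ : J → Type w} [∀ j, AddCommGroup (NJ j)] [∀ j, Module A (NJ j)]
    {NK : K → Type w} [∀ k, AddCommGroup (NK k)] [∀ k, Module A (NK k)]
    {N' : Type w} [AddCommGroup N'] {NJ' : J → Type w} [∀ j, AddCommGroup (NJ' j)] {NK' : K → Type w}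
    [∀ k, AddCommGroup (NK' k)]
    (d : ∀ j, N →ₗ[A] NJ j) (l : ∀ k, NJ (jl k) →ₗ[A] NK k) (r : ∀ k, NJ (jr k) →ₗ[A] NK k)
    (hinj : ∀ s : N, (∀ j, d j s = 0) → s = 0) (hlr : ∀ k s, l k (d (jl k) s) = r k (d (jr k) s))
    (hglue : ∀ x : ∀ j, NJ j, (∀ k, l k (x (jl k)) = r k (x (jr k))) → ∃ s, ∀ j, d j s = x j)
    (d' : ∀ j, N' →+ NJ' j) (l' : ∀ k, NJ' (jl k) →+ NK' k) (r' : ∀ k, NJ' (jr k) →+ NK' k)
    (hinj' : ∀ s : N', (∀ j, d' j s = 0) → s = 0) (hlr' : ∀ k s, l' k (d' (jl k) s) = r' k (d' (jr k) s))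
    (β : B ⊗[A] N →+ N') (βJ : ∀ j, B ⊗[A] NJ j →+ NJ' j) (βK : ∀ k, B ⊗[A] NK k →+ NK' k)
    (hd : ∀ j (b : B) (s : N), d' j (β (b ⊗ₜ s)) = βJ j (b ⊗ₜ d j s))
    (hl : ∀ k (b : B) x, l' k (βJ (jl k) (b ⊗ₜ x)) = βK k (b ⊗ₜ l k x))
    (hr : ∀ k (b : B) x, r' k (βJ (jr k) (b ⊗ₜ x)) = βK k (b ⊗ₜ r k x))
    (hJ : ∀ j, Function.Bijective (βJ j)) (hK : ∀ k, Function.Injective (βK k)) : Function.Bijective β := by
  classical
  haveI := Fintype.ofFinite J
  haveI := Fintype.ofFinite K
  let D : N →ₗ[A] ∀ j, NJ j := LinearMap.pi d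
  let Δ : (∀ j, NJ j) →ₗ[A] ∀ k, NK k :=
    LinearMap.pi fun k => r k ∘ₗ LinearMap.proj (jr k) - l k ∘ₗ LinearMap.proj (jl k)
  let eJ := TensorProduct.piRight A A B NJ
  let eK := TensorProduct.piRight A A B NK
  have hD : ∀ j z, eJ (D.lTensor B z) j = (d j).lTensor B z := fun j z => by
    induction z using TensorProduct.induction_on with
    | zero => simp
    | add z z' hz hz' => simp only [map_add, Pi.add_apply, hz, hz']
    | tmul t v => rfl
  have hd' : ∀ j z, d' j (β z) = βJ j ((d j).lTensor B z) := fun j z => by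
    induction z using TensorProduct.induction_on with
    | zero => simp
    | add z z' hz hz' => simp only [map_add, hz, hz']
    | tmul t v => rw [LinearMap.lTensor_tmul, hd]
  have hl' : ∀ k z, l' k (βJ (jl k) z) = βK k ((l k).lTensor B z) := fun k z => by
    induction z using TensorProduct.induction_on with
    | zero => simp
    | add z z' hz hz' => simp only [map_add, hz, hz']
    | tmul t v => rw [LinearMap.lTensor_tmul, hl]
  have hr' : ∀ k z, r' k (βJ (jr k) z) = βK k ((r k).lTensor B z) := fun k z => by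
    induction z using TensorProduct.induction_on with
    | zero => simp
    | add z z' hz hz' => simp only [map_add, hz, hz']
    | tmul t v => rw [LinearMap.lTensor_tmul, hr]
  have hΔ : ∀ k z, eK (Δ.lTensor B z) k = (r k).lTensor B (eJ z (jr k)) - (l k).lTensor B (eJ z (jl k)) := fun k z => by
    induction z using TensorProduct.induction_on with
    | zero => simp
    | add z z' hz hz' => simp only [map_add, Pi.add_apply, hz, hz']; abel
    | tmul t v =>
      show t ⊗ₜ (r k (v (jr k)) - l k (v (jl k))) = _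
      rw [TensorProduct.tmul_sub]
      rfl
  have hDinj : Function.Injective D := (injective_iff_map_eq_zero D).2 fun s hs => hinj s fun j => congrFun hs j
  have hex : Function.Exact D Δ := fun x => by
    constructor
    · intro hx
      obtain ⟨s, hs⟩ := hglue x fun k => (sub_eq_zero.1 (congrFun hx k)).symm
      exact ⟨s, funext hs⟩
    · rintro ⟨s, rfl⟩
      exact funext fun k => sub_eq_zero.2 (hlr k s).symm
  refine ⟨(injective_iff_map_eq_zero β).2 fun z hz => ?_, fun y => ?_⟩
  · refine Module.Flat.lTensor_preserves_injective_linearMap D hDinj (eJ.injective (funext fun j => ?_))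
    rw [hD, map_zero, map_zero, Pi.zero_apply]
    refine (hJ j).1 ?_
    rw [← hd', hz, map_zero, map_zero]
  · choose x hx using fun j => (hJ j).2 (d' j y)
    obtain ⟨z, hz⟩ := (Module.Flat.lTensor_exact B hex (eJ.symm x)).1 (eK.injective (funext fun k => by
      rw [hΔ, LinearEquiv.apply_symm_apply, map_zero, Pi.zero_apply, sub_eq_zero]
      refine hK k ?_
      rw [← hl', ← hr', hx, hx, hlr']))
    refine ⟨z, sub_eq_zero.1 (hinj' _ fun j => ?_)⟩
    rw [map_sub, hd', ← hD, hz, LinearEquiv.apply_symm_apply, hx, sub_self]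

variable {S : Scheme.{u}} {X Y : Sp S} {f : X ⟶ Y} (hf : Representable f) (M : ModEt X)

/-- Sections over an object over a base change, as a module over the functions of the base. -/
def PSec {E : EtOver Y} {T : EtOver X} (_t : T ⟶ (EtOver.bc hf).obj E) : Type (u + 1) :=
  (psh (R := OEt X) M).obj (op T)

noncomputable instance {E : EtOver Y} {T : EtOver X} (t : T ⟶ (EtOver.bc hf).obj E) :
    AddCommGroup (PSec hf M t) :=
  inferInstanceAs (AddCommGroup ((psh (R := OEt X) M).obj (op T)))

/-- Functions of the base as functions on an object over a base change. -/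
noncomputable def rho {E : EtOver Y} {T : EtOver X} (t : T ⟶ (EtOver.bc hf).obj E) :
    (OEt Y).obj.obj (op E) →+* (OEt X).obj.obj (op T) :=
  ((OEt X).obj.map t.op).hom.comp (bcR hf E)

noncomputable instance {E : EtOver Y} {T : EtOver X} (t : T ⟶ (EtOver.bc hf).obj E) :
    Module ((OEt Y).obj.obj (op E)) (PSec hf M t) :=
  Module.compHom ((psh (R := OEt X) M).obj (op T)) (rho hf t)

theorem rho_comp {E : EtOver Y} {T T₁ : EtOver X} (t : T ⟶ (EtOver.bc hf).obj E) (k : T₁ ⟶ T)
    (a : (OEt Y).obj.obj (op E)) : rho hf (k ≫ t) a = ((OEt X).obj.map k.op).hom (rho hf t a) := by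
  show ((OEt X).obj.map (k ≫ t).op).hom (bcR hf E a) = ((OEt X).obj.map k.op).hom (((OEt X).obj.map t.op).hom _)
  rw [op_comp, Functor.map_comp]
  rfl

/-- Restriction of sections over a base change. -/
noncomputable def pres {E : EtOver Y} {T T₁ : EtOver X} (t : T ⟶ (EtOver.bc hf).obj E) (t₁ : T₁ ⟶ (EtOver.bc hf).obj E)
    (k : T₁ ⟶ T) (hk : k ≫ t = t₁) : PSec hf M t →ₗ[(OEt Y).obj.obj (op E)] PSec hf M t₁ where
  toFun x := sres (psh (R := OEt X) M) k x
  map_add' x y := map_add (sres (psh (R := OEt X) M) k) _ _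
  map_smul' a x := by
    subst hk
    refine (sres_smul (psh (R := OEt X) M) k (rho hf t a) x).trans ?_
    exact congrArg (fun c : (OEt X).obj.obj (op T₁) => c • sres (psh (R := OEt X) M) k x) (rho_comp hf t k a).symm

theorem bijective_beta [M.IsQuasicoherent] {E E' : EtOver Y} (g : E' ⟶ E) (hE : IsAffine E.obj.left.left)
    (hE' : IsAffine E'.obj.left.left) {T T' : EtOver X} (t : T ⟶ (EtOver.bc hf).obj E)
    (p : T' ⟶ T) (q : T' ⟶ (EtOver.bc hf).obj E')
    (hT : IsAffine T.obj.left.left) (hT' : IsAffine T'.obj.left.left)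
    (sq : IsPullback p.hom.left.left q.hom.left.left t.hom.left.left ((EtOver.bc hf).map g).hom.left.left)
    (w : p ≫ t = q ≫ (EtOver.bc hf).map g)
    (β : Rg (OEt Y).obj g ⊗[(OEt Y).obj.obj (op E)] PSec hf M t →+ (psh (R := OEt X) M).obj (op T'))
    (hβ : ∀ b x, β (b ⊗ₜ x) = rho hf q b • sres (psh (R := OEt X) M) p x) : Function.Bijective β := by
  let P := QCart.psh (R := OEt X) M
  have hc : Cart p P := isCart M hT hT' p
  let A := (OEt Y).obj.obj (op E)
  let B := Rg (OEt Y).obj g
  let C := (OEt X).obj.obj (op T)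
  let D := Rg (OEt X).obj p
  letI : Algebra A C := (rho hf t).toAlgebra
  letI : Algebra B D := RingHom.toAlgebra (R := B) (S := D) (rho hf q)
  letI : Algebra A D := RingHom.toAlgebra (S := D) ((algebraMap C D).comp (algebraMap A C))
  haveI : IsScalarTower A C D := IsScalarTower.of_algebraMap_eq fun _ => rfl
  have hpo : CategoryTheory.IsPushout ((OEt Y).obj.map g.op) (CommRingCat.ofHom (rho hf t))
      (CommRingCat.ofHom (rho hf q)) ((OEt X).obj.map p.op) := by
    haveI := hE
    haveI := hE'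
    haveI := hT
    exact isPushout_upHom (isPushout_appTop_of_isPullback
      (sq.paste_vert (EtOver.isPullback_bcMap_left hf g))).flip
  haveI : IsScalarTower A B D := IsScalarTower.of_algebraMap_eq fun a =>
    (ConcreteCategory.congr_hom hpo.w a).symm
  haveI : Algebra.IsPushout A B C D := CommRingCat.isPushout_iff_isPushout.1 (show CategoryTheory.IsPushout
    (CommRingCat.ofHom (algebraMap A B)) (CommRingCat.ofHom (algebraMap A C))
    (CommRingCat.ofHom (algebraMap B D)) (CommRingCat.ofHom (algebraMap C D)) from hpo)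
  letI : Module A (P.obj (op T)) := Module.compHom _ (rho hf t)
  haveI : IsScalarTower A C (P.obj (op T)) := IsScalarTower.of_algebraMap_smul fun _ _ => rfl
  exact bijective_liftBaseChange_pushout (A := A) (B := B) (C := C) (D := D) (res p P)
    ((cart_iff_isBaseChange p P).1 hc) β hβ

/-- The comparison map over a base change. -/
noncomputable def beta {E E' : EtOver Y} (g : E' ⟶ E) {T T' : EtOver X} (t : T ⟶ (EtOver.bc hf).obj E)
    (p : T' ⟶ T) (q : T' ⟶ (EtOver.bc hf).obj E') (w : p ≫ t = q ≫ (EtOver.bc hf).map g) :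
    Rg (OEt Y).obj g ⊗[(OEt Y).obj.obj (op E)] PSec hf M t →+ (psh (R := OEt X) M).obj (op T') :=
  TensorProduct.liftAddHom
    (AddMonoidHom.mk' (fun b => AddMonoidHom.mk' (fun x => rho hf q b • sres (psh (R := OEt X) M) p x)
        fun x y => (congrArg _ (map_add (sres (psh (R := OEt X) M) p) (show (psh (R := OEt X) M).obj (op T) from x) y)).trans
          (smul_add _ _ _))
      fun a b => AddMonoidHom.ext fun x =>
        (congrArg (fun c : (OEt X).obj.obj (op T') => c • sres (psh (R := OEt X) M) p x) (map_add (rho hf q) a b)).trans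
          (add_smul _ _ _))
    fun a b x => by
      let P := psh (R := OEt X) M
      have e : rho hf q (((OEt Y).obj.map g.op).hom a) = ((OEt X).obj.map p.op).hom (rho hf t a) := by
        have e1 : bcR hf E' (((OEt Y).obj.map g.op).hom a) =
            ((OEt X).obj.map ((EtOver.bc hf).map g).op).hom (bcR hf E a) :=
          ConcreteCategory.congr_hom ((bcRingHom hf).hom.naturality g.op) a
        show ((OEt X).obj.map q.op).hom (bcR hf E' (((OEt Y).obj.map g.op).hom a)) = _
        rw [e1, ← rho_comp, w]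
        show _ = ((OEt X).obj.map (q ≫ (EtOver.bc hf).map g).op).hom (bcR hf E a)
        rw [op_comp, Functor.map_comp]
        rfl
      show rho hf q (((OEt Y).obj.map g.op).hom a * (show (OEt Y).obj.obj (op E') from b)) • sres P p x =
        rho hf q b • sres P p (rho hf t a • (show P.obj (op T) from x))
      refine Eq.trans ?_ (congrArg (fun z : P.obj (op T') => rho hf q b • z) (sres_smul P p (rho hf t a) (show P.obj (op T) from x))).symm
      rw [map_mul, mul_comm, mul_smul, e]

theorem beta_tmul {E E' : EtOver Y} (g : E' ⟶ E) {T T' : EtOver X} (t : T ⟶ (EtOver.bc hf).obj E)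
    (p : T' ⟶ T) (q : T' ⟶ (EtOver.bc hf).obj E') (w : p ≫ t = q ≫ (EtOver.bc hf).map g) (b : Rg (OEt Y).obj g)
    (x : PSec hf M t) : beta hf M g t p q w (b ⊗ₜ x) = rho hf q b • sres (psh (R := OEt X) M) p x := rfl

/-- A finite affine covering of a base change with finite affine coverings of the overlaps. -/
theorem exists_finite_data (hqc : IsQuasiCompactMor f) (hqs : IsQuasiSeparatedMor f) (E : EtOver Y)
    [IsAffine E.obj.left.left] :
    ∃ (J K : Type) (_ : Finite J) (_ : Finite K) (V : J → ((EtOver.bc hf).obj E).obj.left.left.affineOpens)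
      (W : K → ((EtOver.bc hf).obj E).obj.left.left.affineOpens) (jl jr : K → J),
      (∀ k, (W k).1 ≤ (V (jl k)).1 ⊓ (V (jr k)).1) ∧ (∀ x, ∃ j, x ∈ (V j).1) ∧
      ∀ i j, ∀ x ∈ (V i).1 ⊓ (V j).1, ∃ k, jl k = i ∧ jr k = j ∧ x ∈ (W k).1 := by
  classical
  let U := ((EtOver.bc hf).obj E).obj.left.left
  have sq := EtOver.isPullback_bcObj hf E
  haveI : CompactSpace E.obj.left.left := inferInstance
  haveI : QuasiCompact (EtOver.bcπ hf E).left := (AlgSpPts.repWith_quasiCompact hf hqc).property _ _ _ sq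
  haveI : QuasiSeparated (EtOver.bcπ hf E).left :=
    (isQuasiSeparatedMor_yon_map_iff _).1 (MorphismProperty.of_isPullback (P := (RepWith @QuasiCompact).diagonal) sq hqs)
  haveI : CompactSpace U := QuasiCompact.compactSpace_of_compactSpace (EtOver.bcπ hf E).left
  haveI : QuasiSeparatedSpace U := quasiSeparatedSpace_of_quasiSeparated (EtOver.bcπ hf E).left
  obtain ⟨s, hs⟩ := (isCompact_univ (X := U)).elim_finite_subcover (fun V : U.affineOpens => (V.1 : Set U))
    (fun V => V.1.2) fun x _ => by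
      obtain ⟨V, hV, hx, -⟩ := exists_isAffineOpen_mem_and_subset (U := (⊤ : U.Opens)) (x := x) trivial
      exact Set.mem_iUnion.2 ⟨⟨V, hV⟩, hx⟩
  let e := s.equivFin.symm
  have hcov : ∀ ij : Fin s.card × Fin s.card, ∃ t : Finset U.affineOpens,
      (∀ W ∈ t, W.1 ≤ (e ij.1).1.1 ⊓ (e ij.2).1.1) ∧ ∀ x ∈ (e ij.1).1.1 ⊓ (e ij.2).1.1, ∃ W ∈ t, x ∈ W.1 := fun ij => by
    let O := (e ij.1).1.1 ⊓ (e ij.2).1.1
    have hO : IsCompact (O : Set U) := QuasiSeparatedSpace.inter_isCompact _ _ (e ij.1).1.1.2 (e ij.1).1.2.isCompact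
      (e ij.2).1.1.2 (e ij.2).1.2.isCompact
    obtain ⟨t, ht⟩ := hO.elim_finite_subcover (fun W : {W : U.affineOpens // W.1 ≤ O} => (W.1.1 : Set U))
      (fun W => W.1.1.2) fun x hx => by
        obtain ⟨W, hW, hxW, hle⟩ := exists_isAffineOpen_mem_and_subset (U := O) (x := x) hx
        exact Set.mem_iUnion.2 ⟨⟨⟨W, hW⟩, hle⟩, hxW⟩
    refine ⟨t.map (Function.Embedding.subtype _), fun W hW => ?_, fun x hx => ?_⟩
    · obtain ⟨W', -, rfl⟩ := Finset.mem_map.1 hW
      exact W'.2
    · obtain ⟨W', hW', hxW⟩ := Set.mem_iUnion₂.1 (ht hx)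
      exact ⟨W'.1, Finset.mem_map.2 ⟨W', hW', rfl⟩, hxW⟩
  choose t ht ht' using hcov
  refine ⟨Fin s.card, Σ ij, Fin (t ij).card, inferInstance, inferInstance, fun i => (e i).1,
    fun k => ((t k.1).equivFin.symm k.2).1, fun k => k.1.1, fun k => k.1.2, fun k => ht _ _ ((t k.1).equivFin.symm k.2).2,
    fun x => ?_, fun i j x hx => ?_⟩
  · obtain ⟨V, hV, hxV⟩ := Set.mem_iUnion₂.1 (hs (Set.mem_univ x))
    exact ⟨e.symm ⟨V, hV⟩, by simp only [e.apply_symm_apply]; exact hxV⟩
  · obtain ⟨W, hW, hxW⟩ := ht' (i, j) x hx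
    exact ⟨⟨(i, j), (t (i, j)).equivFin ⟨W, hW⟩⟩, rfl, rfl, by simp only [Equiv.symm_apply_apply]; exact hxW⟩

set_option maxHeartbeats 1600000 in
/-- Direct images of quasi-coherent modules along quasi-compact quasi-separated morphisms are cartesian. -/
theorem isCart_pushModEt [M.IsQuasicoherent] (hqc : IsQuasiCompactMor f) (hqs : IsQuasiSeparatedMor f) :
    (QCart.etBasis Y).IsCart (QCart.psh (R := OEt Y) ((pushModEt hf).obj M)) := by
  intro E E' hE hE' g
  haveI : IsAffine E.obj.left.left := hE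
  haveI : IsAffine E'.obj.left.left := hE'
  haveI := algebraMap_flat Y hE hE' g
  obtain ⟨J, K, _, _, V, W, jl, jr, hWV, hVcov, hWcov⟩ := exists_finite_data hf hqc hqs E
  let P := QCart.psh (R := OEt X) M
  let U := (EtOver.bc hf).obj E
  let h := (EtOver.bc hf).map g
  let TJ : J → EtOver X := fun j => AlgSpDec.etOpen U (V j).1
  let tJ : ∀ j, TJ j ⟶ U := fun j => AlgSpDec.etOpenι U (V j).1
  let TK : K → EtOver X := fun k => AlgSpDec.etOpen U (W k).1
  let tK : ∀ k, TK k ⟶ U := fun k => AlgSpDec.etOpenι U (W k).1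
  have hmono : ∀ j {Z : EtOver X} (a b : Z ⟶ TJ j), a ≫ tJ j = b ≫ tJ j → a = b := fun j Z a b e => by
    refine EtOver.hom_ext _ _ (Over.OverMorphism.ext ((cancel_mono (V j).1.ι).1 ?_))
    exact congrArg (fun m : Z ⟶ U => m.hom.left.left) e
  have hlift : ∀ k j, (W k).1 ≤ (V j).1 → ∃ a : TK k ⟶ TJ j, a ≫ tJ j = tK k := fun k j hle => by
    refine ⟨EtOver.homMk (CategoryTheory.Over.homMk (U.obj.left.left.homOfLE hle) ?_) ?_, ?_⟩
    · exact ((Category.assoc _ _ _).symm.trans (congrArg (· ≫ U.obj.left.hom) (Scheme.homOfLE_ι _ hle)))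
    · show (yon S).map _ ≫ (yon S).map _ ≫ U.obj.hom = (yon S).map _ ≫ U.obj.hom
      rw [← Category.assoc, ← Functor.map_comp]
      exact congrArg (fun m => (yon S).map m ≫ U.obj.hom) (Over.OverMorphism.ext (Scheme.homOfLE_ι _ hle))
    · exact EtOver.hom_ext _ _ (Over.OverMorphism.ext (Scheme.homOfLE_ι _ hle))
  choose al hal using fun k => hlift k (jl k) ((hWV k).trans inf_le_left)
  choose ar har using fun k => hlift k (jr k) ((hWV k).trans inf_le_right)
  -- the base changes
  let U' := (EtOver.bc hf).obj E'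
  let TJ' : J → EtOver X := fun j => EtOver.pullbackObj (tJ j) h
  let pJ : ∀ j, TJ' j ⟶ TJ j := fun j => EtOver.pullbackFst (tJ j) h
  let qJ : ∀ j, TJ' j ⟶ U' := fun j => EtOver.pullbackSnd (tJ j) h
  let TK' : K → EtOver X := fun k => EtOver.pullbackObj (tK k) h
  let pK : ∀ k, TK' k ⟶ TK k := fun k => EtOver.pullbackFst (tK k) h
  let qK : ∀ k, TK' k ⟶ U' := fun k => EtOver.pullbackSnd (tK k) h
  have sqJ : ∀ j, IsPullback (pJ j) (qJ j) (tJ j) h := fun j => EtOver.isPullback _ _
  have sqK : ∀ k, IsPullback (pK k) (qK k) (tK k) h := fun k => EtOver.isPullback _ _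
  let bl : ∀ k, TK' k ⟶ TJ' (jl k) := fun k => (sqJ (jl k)).lift (pK k ≫ al k) (qK k)
    (by rw [Category.assoc, hal]; exact (sqK k).w)
  let br : ∀ k, TK' k ⟶ TJ' (jr k) := fun k => (sqJ (jr k)).lift (pK k ≫ ar k) (qK k)
    (by rw [Category.assoc, har]; exact (sqK k).w)
  have hscheme : ∀ {T : EtOver X} (t : T ⟶ U), IsPullback (EtOver.pullbackFst t h).hom.left.left
      (EtOver.pullbackSnd t h).hom.left.left t.hom.left.left h.hom.left.left := fun t =>
    (IsPullback.of_hasPullback t.hom.left h.hom.left).map (CategoryTheory.Over.forget S)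
  have haff : ∀ {T : EtOver X} (t : T ⟶ U), IsAffine T.obj.left.left →
      IsAffine (EtOver.pullbackObj t h).obj.left.left := fun t hT => by
    haveI := hT
    exact IsAffine.of_isPullback ((hscheme t).paste_vert (EtOver.isPullback_bcMap_left hf g))
  have hcovU : Sieve.ofArrows TJ tJ ∈ etTop X U := AlgSp.ofArrows_mem_etTop _ _ fun x => by
    obtain ⟨j, hj⟩ := hVcov x
    exact ⟨j, (AlgSpDec.range_etOpenι U (V j).1).ge hj⟩
  have hcovU' : Sieve.ofArrows TJ' qJ ∈ etTop X U' := by
    refine (etTop X).superset_covering ?_ ((etTop X).pullback_stable h hcovU)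
    intro Z m hm
    obtain ⟨j, k, hk⟩ := (Sieve.mem_ofArrows_iff _ _ _).1 hm
    exact (Sieve.mem_ofArrows_iff _ _ _).2 ⟨j, (sqJ j).lift k m hk.symm, ((sqJ j).lift_snd _ _ _).symm⟩
  have hsep : ∀ {U₀ : EtOver X} {ι : Type} {Z : ι → EtOver X} {m : ∀ i, Z i ⟶ U₀},
      Sieve.ofArrows Z m ∈ etTop X U₀ → ∀ s : P.obj (op U₀), (∀ i, sres P (m i) s = 0) → s = 0 :=
    fun hS s hs => ext_of_ofArrows M hS s 0 fun i => (hs i).trans (map_zero _).symm
  letI : ∀ j, AddCommGroup (P.obj (op (TJ' j))) := fun j => inferInstance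
  refine bijective_of_equalizer (A := (OEt Y).obj.obj (op E)) (B := Rg (OEt Y).obj g) jl jr
    (N := (QCart.psh (R := OEt Y) ((pushModEt hf).obj M)).obj (op E))
    (N' := Sec (QCart.psh (R := OEt Y) ((pushModEt hf).obj M)) g)
    (NJ := fun j => PSec hf M (tJ j)) (NK := fun k => PSec hf M (tK k))
    (NJ' := fun j => P.obj (op (TJ' j))) (NK' := fun k => P.obj (op (TK' k)))
    (fun j => { toFun := fun s => sres P (tJ j) s
                map_add' := fun x y => map_add (sres P (tJ j)) _ _
                map_smul' := fun a x => sres_smul P (tJ j) (bcR hf E a) (show P.obj (op U) from x) })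
    (fun k => pres hf M _ _ (al k) (hal k)) (fun k => pres hf M _ _ (ar k) (har k))
    (hsep hcovU)
    (fun k s => (sres_sres P (tJ _) (al k) s).trans (((congrArg (fun m => sres P m s) (hal k)).trans
      (congrArg (fun m => sres P m s) (har k)).symm).trans (sres_sres P (tJ _) (ar k) s).symm))
    ?_ (fun j => sres P (qJ j)) (fun k => sres P (bl k)) (fun k => sres P (br k))
    (hsep hcovU')
    (fun k s => (sres_sres P (qJ _) (bl k) s).trans (((congrArg (fun m => sres P m s) ((sqJ _).lift_snd _ _ _)).trans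
      (congrArg (fun m => sres P m s) ((sqJ _).lift_snd _ _ _)).symm).trans (sres_sres P (qJ _) (br k) s).symm))
    (bcMap g (QCart.psh (R := OEt Y) ((pushModEt hf).obj M))).toAddMonoidHom
    (fun j => beta hf M g (tJ j) (pJ j) (qJ j) (sqJ j).w) (fun k => beta hf M g (tK k) (pK k) (qK k) (sqK k).w)
    ?_ ?_ ?_
    (fun j => bijective_beta hf M g hE hE' (tJ j) (pJ j) (qJ j) (V j).2 (haff (tJ j) (V j).2) (hscheme _) (sqJ j).w _
      (beta_tmul hf M g _ _ _ _))
    (fun k => (bijective_beta hf M g hE hE' (tK k) (pK k) (qK k) (W k).2 (haff (tK k) (W k).2) (hscheme _) (sqK k).w _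
      (beta_tmul hf M g _ _ _ _)).1)
  · intro x hx
    refine exists_glue_sheaf M hcovU x fun Z i j a b e => ?_
    -- cover `Z` by the pullbacks of the overlaps
    have hcovZ : Sieve.ofArrows (fun k : {k // jl k = i ∧ jr k = j} => EtOver.pullbackObj (a ≫ tJ i) (tK k.1))
        (fun k => EtOver.pullbackFst (a ≫ tJ i) (tK k.1)) ∈ etTop X Z := AlgSp.ofArrows_mem_etTop _ _ fun z => by
      have h1 : (a ≫ tJ i).hom.left.left z ∈ (V i).1 := (AlgSpDec.range_etOpenι U (V i).1).le ⟨a.hom.left.left z, rfl⟩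
      have h2 : (a ≫ tJ i).hom.left.left z ∈ (V j).1 := by
        rw [e]
        exact (AlgSpDec.range_etOpenι U (V j).1).le ⟨b.hom.left.left z, rfl⟩
      obtain ⟨k, hki, hkj, hk⟩ := hWcov i j _ ⟨h1, h2⟩
      obtain ⟨w', hw'⟩ := (AlgSpDec.range_etOpenι U (W k).1).ge hk
      have hsq : IsPullback (EtOver.pullbackFst (a ≫ tJ i) (tK k)).hom.left.left
          (EtOver.pullbackSnd (a ≫ tJ i) (tK k)).hom.left.left (a ≫ tJ i).hom.left.left (tK k).hom.left.left :=
        (IsPullback.of_hasPullback (a ≫ tJ i).hom.left (tK k).hom.left).map (CategoryTheory.Over.forget S)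
      obtain ⟨z', hz', -⟩ := Scheme.Pullback.exists_preimage_pullback (f := (a ≫ tJ i).hom.left.left)
        (g := (tK k).hom.left.left) z w' hw'.symm
      exact ⟨⟨k, hki, hkj⟩, hsq.isoPullback.inv z', by
        rw [← Scheme.Hom.comp_apply, hsq.isoPullback_inv_fst]; exact hz'⟩
    refine ext_of_ofArrows M hcovZ _ _ fun ⟨k, hki, hkj⟩ => ?_
    subst hki hkj
    let π := EtOver.pullbackFst (a ≫ tJ (jl k)) (tK k)
    let π' := EtOver.pullbackSnd (a ≫ tJ (jl k)) (tK k)
    have hw := (EtOver.isPullback (a ≫ tJ (jl k)) (tK k)).w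
    have ha : π ≫ a = π' ≫ al k := hmono _ _ _ (by rw [Category.assoc, Category.assoc, hal]; exact hw)
    have hb : π ≫ b = π' ≫ ar k := hmono _ _ _ (by rw [Category.assoc, Category.assoc, har, ← e]; exact hw)
    show sres P π (sres P a _) = sres P π (sres P b _)
    rw [sres_sres, sres_sres, ha, hb, ← sres_sres, ← sres_sres]
    exact congrArg (sres P π') (hx k)
  · intro j b s
    rw [beta_tmul]
    show sres P (qJ j) ((bcMap g (QCart.psh (R := OEt Y) ((pushModEt hf).obj M))) (b ⊗ₜ s)) = _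
    rw [bcMap_tmul]
    refine (sres_smul P (qJ j) (bcR hf E' b) (sres P h s)).trans ?_
    show rho hf (qJ j) b • sres P (qJ j) (sres P h s) = rho hf (qJ j) b • sres P (pJ j) (sres P (tJ j) s)
    rw [sres_sres, sres_sres, (sqJ j).w]
  · intro k b x
    rw [beta_tmul, beta_tmul]
    refine (sres_smul P (bl k) (rho hf (qJ _) b) (sres P (pJ _) x)).trans ?_
    rw [← rho_comp, (sqJ _).lift_snd]
    show _ • sres P (bl k) (sres P (pJ _) x) = _ • sres P (pK k) (sres P (al k) x)
    rw [sres_sres, sres_sres, (sqJ _).lift_fst]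
  · intro k b x
    rw [beta_tmul, beta_tmul]
    refine (sres_smul P (br k) (rho hf (qJ _) b) (sres P (pJ _) x)).trans ?_
    rw [← rho_comp, (sqJ _).lift_snd]
    show _ • sres P (br k) (sres P (pJ _) x) = _ • sres P (pK k) (sres P (ar k) x)
    rw [sres_sres, sres_sres, (sqJ _).lift_fst]

/-- Direct images of quasi-coherent modules along quasi-compact quasi-separated morphisms are quasi-coherent. -/
theorem isQuasicoherent_pushModEt [M.IsQuasicoherent] (hqc : IsQuasiCompactMor f) (hqs : IsQuasiSeparatedMor f) :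
    ((pushModEt hf).obj M).IsQuasicoherent :=
  (AffBasis.isQuasicoherent_iff_isCart (R := OEt Y) (QCart.etBasis Y)).2 (isCart_pushModEt hf M hqc hqs)

end Groth.Agent.DecentElem
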