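import Groth.Agent.AlgSpDec.LqfQuot
import Groth.Agent.AlgSpDec.SpQuot
import Groth.Agent.AlgSpDec.MonoQuot
import Groth.Agent.AlgSpDM.ElemNbhd
import Groth.Agent.AlgSpLib.FpqcDescent

/-!
# The residual space at a point
-/

set_option autoImplicit false
set_option backward.isDefEq.respectTransparency false
set_option backward.isDefEq.respectTransparency.types false

universe u

open CategoryTheory Limits Opposite AlgebraicGeometry AlgSp Groth.Agent.AlgSpLib Groth.Agent.AlgSpPts Groth.Agent.AlgSpDec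

namespace Groth.Agent.DecentElem

variable {S : Scheme.{u}} {X : Sp S}

/-- An etale scheme over a field is reduced with open points. -/
theorem isOpen_of_etale_field {K : Type u} [Field K] {P : Scheme.{u}} (f : P ⟶ Spec (CommRingCat.of K)) [Etale f]
    (A : Set P) : IsOpen A := by
  have h : ∀ y : P, IsOpen ({y} : Set P) := fun y => by
    obtain ⟨O, hO, hO'⟩ := isDiscrete_iff_forall_mem_exists_isOpen.1 (f.isDiscrete_preimage_singleton (f y)) y rfl
    have : f ⁻¹' {f y} = Set.univ := Set.eq_univ_of_forall fun z => Subsingleton.elim (α := PrimeSpectrum K) _ _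
    rw [this, Set.inter_univ] at hO'
    exact hO' ▸ hO
  rw [← Set.biUnion_of_singleton A]
  exact isOpen_biUnion fun y _ => h y

/-- The relation induced at a point of an etale chart is etale. -/
theorem etale_point_relation {U : Over S} {a : (yon S).obj U ⟶ X} (ha : RepWith @Etale a) (u : ↥U.left)
    {R : Over S} {t s : R ⟶ (FieldPt.ofPt a u).pt}
    (sq : IsPullback ((yon S).map t) ((yon S).map s) (FieldPt.ofPt a u).toHom (FieldPt.ofPt a u).toHom) :
    Etale s.left := by
  let q := FieldPt.ofPt a u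
  let ι : q.pt ⟶ U := AlgSpDM.ptι a u
  have hι : (yon S).map ι ≫ a = q.toHom := (FieldPt.toHom_ofPt a u).symm
  have sqP := ha.rep.isPullback' q.toHom
  let P := ha.rep.pullback q.toHom
  let pU : P ⟶ U := ha.rep.fst' q.toHom
  let p₂ : P ⟶ q.pt := ha.rep.snd q.toHom
  have : Etale p₂.left := ha.property_snd q.toHom
  have : IsReduced q.pt.left := inferInstanceAs (IsReduced (Spec (CommRingCat.of (U.left.residueField u))))
  have : IsReduced P.left := isReduced_of_etaleMor p₂.left
  have hw : (yon S).map (t ≫ ι) ≫ a = (yon S).map s ≫ q.toHom :=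
    ((congrArg (· ≫ a) ((yon S).map_comp t ι)).trans (Category.assoc _ _ _)).trans
      ((congrArg ((yon S).map t ≫ ·) hι).trans sq.w)
  obtain ⟨l, hl₁, hl₂⟩ : ∃ l : R ⟶ P, l ≫ pU = t ≫ ι ∧ l ≫ p₂ = s := by
    obtain ⟨l, hl⟩ := (yon S).map_surjective (sqP.lift _ _ hw)
    exact ⟨l, (yon S).map_injective (by rw [Functor.map_comp, hl, sqP.lift_fst]),
      (yon S).map_injective (by rw [Functor.map_comp, hl, sqP.lift_snd])⟩
  have sql : IsPullback l t pU ι := by
    refine IsPullback.of_map (yon S) hl₁ (IsPullback.flip ?_)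
    refine IsPullback.of_bot ?_ ?_ sqP
    · rw [← Functor.map_comp, hl₂, hι]
      exact sq
    · rw [← Functor.map_comp, ← Functor.map_comp, hl₁]
  have : Mono ι.left := inferInstanceAs (Mono (U.left.fromSpecResidueField u))
  have sql' : IsPullback l.left t.left pU.left ι.left := sql.map (Over.forget S)
  have hm : Mono l.left := MorphismProperty.of_isPullback (P := MorphismProperty.monomorphisms Scheme.{u})
    sql'.flip ‹Mono ι.left›
  let O : P.left.Opens := ⟨pU.left ⁻¹' {u}, isOpen_of_etale_field (K := U.left.residueField u) p₂.left _⟩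
  have : IsReduced O.toScheme := isReduced_of_isOpenImmersion O.ι
  obtain ⟨k, hk⟩ := exists_factor_residueField (O.ι ≫ pU.left) u fun o => by
    rw [Scheme.Hom.comp_apply]
    exact o.2
  obtain ⟨σ, hσ₁, -⟩ := sql'.exists_lift O.ι k hk.symm
  have hrl : Set.range l.left ⊆ Set.range O.ι := by
    rintro _ ⟨r, rfl⟩
    rw [Scheme.Opens.range_ι]
    show pU.left (l.left r) = u
    rw [← Scheme.Hom.comp_apply, sql'.w, Scheme.Hom.comp_apply]
    exact U.left.fromSpecResidueField_apply u _
  let l' := IsOpenImmersion.lift O.ι l.left hrl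
  have hl' : l' ≫ O.ι = l.left := IsOpenImmersion.lift_fac _ _ hrl
  have : IsIso l' := ⟨σ, by rw [← cancel_mono l.left, Category.assoc, hσ₁, hl', Category.id_comp],
    by rw [← cancel_mono O.ι, Category.assoc, hl', hσ₁, Category.id_comp]⟩
  have : Etale l.left := by rw [← hl']; infer_instance
  rw [← hl₂]
  exact inferInstanceAs (Etale (l.left ≫ p₂.left))

theorem exists_residual (hX : IsAlgSpace X) (x : Points X) :
    ∃ (Z : Sp S) (i : Z ⟶ X), IsAlgSpace Z ∧ Mono i ∧ Set.range (Points.map i) = {x} ∧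
      ∃ (k : Type u) (_ : Field k) (str : Spec (CommRingCat.of k) ⟶ S) (p : (yon S).obj (Over.mk str) ⟶ Z),
        LocP @LocallyOfFinitePresentation p ∧ LocP @Flat p ∧ IsSurjectiveMor p := by
  obtain ⟨U, a, ha, has⟩ := hX.atlas
  obtain ⟨u, rfl⟩ := surjective_ofPt has x
  let q := FieldPt.ofPt a u
  have hr : Representable q.toHom := representable_from_yon' hX _
  let R := hr.pullback q.toHom
  let t : R ⟶ q.pt := hr.fst' q.toHom
  let s : R ⟶ q.pt := hr.snd q.toHom
  have sq : IsPullback ((yon S).map t) ((yon S).map s) q.toHom q.toHom := hr.isPullback' q.toHom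
  have hs : Etale s.left := etale_point_relation ha u sq
  have ht : Etale t.left := etale_point_relation ha u sq.flip
  have hrel : ∀ {T : Over S} (y z : T ⟶ q.pt),
      (∃ r : T ⟶ R, r ≫ t = y ∧ r ≫ s = z) ↔ (yon S).map y ≫ q.toHom = (yon S).map z ≫ q.toHom := by
    intro T y z
    refine ⟨?_, exists_rel_lift sq y z⟩
    rintro ⟨r, rfl, rfl⟩
    rw [Functor.map_comp, Functor.map_comp, Category.assoc, Category.assoc, sq.w]
  have heq : IsEqvRel s t := ⟨fun T r r' h₁ h₂ => (yon S).map_injective (sq.hom_ext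
      (by rw [← Functor.map_comp, ← Functor.map_comp, h₁]) (by rw [← Functor.map_comp, ← Functor.map_comp, h₂])),
    fun T => ⟨fun y => (hrel y y).2 rfl, fun {y z} h => (hrel z y).2 ((hrel y z).1 h).symm,
      fun {y z w} h h' => (hrel y w).2 (((hrel y z).1 h).trans ((hrel z w).1 h'))⟩⟩
  let Z := QuotSh.quot Scheme.fppfPrecoverage s t
  let π : (yon S).obj q.pt ⟶ Z := quotMap s t
  have sqZ : IsPullback ((yon S).map t) ((yon S).map s) π π := isPullback_quotMap heq
  have hls : Sheaf.IsLocallySurjective π := by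
    have : Epi (QuotSh.quotπ Scheme.fppfPrecoverage s t) := by
      unfold QuotSh.quotπ
      infer_instance
    exact (CategoryTheory.Sheaf.isLocallySurjective_iff_epi (quotMap s t)).2 (epi_comp _ _)
  have hZ : IsAlgSpace Z := isAlgSpace_of_flat_kernelPair sqZ
  have hπ : Representable π := representable_from_yon' hZ _
  have := isLocalAtTarget_fppf (@Flat : MorphismProperty Scheme.{u})
  have := isLocalAtTarget_fppf (@LocallyOfFinitePresentation : MorphismProperty Scheme.{u})
  have := isLocalAtTarget_fppf (@Surjective : MorphismProperty Scheme.{u})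
  have hss : Surjective s.left := ⟨fun y => by
    obtain ⟨e, -, he⟩ := exists_rel_lift sq (𝟙 q.pt) (𝟙 q.pt) rfl
    exact ⟨e.left y, by rw [← Scheme.Hom.comp_apply, ← Over.comp_left, he, Over.id_left]; rfl⟩⟩
  have hf := repWith_of_locallySurjective hπ _ sqZ @Flat ((repWith_yon_map_iff _ _).2 (inferInstanceAs (Flat s.left)))
  have hl := repWith_of_locallySurjective hπ _ sqZ @LocallyOfFinitePresentation
    ((repWith_yon_map_iff _ _).2 (inferInstanceAs (LocallyOfFinitePresentation s.left)))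
  have hsj := repWith_of_locallySurjective hπ _ sqZ @Surjective ((repWith_yon_map_iff _ _).2 hss)
  obtain ⟨i, hi⟩ := exists_desc_of_kernelPair sqZ q.toHom sq.w
  have hloc : ∀ {T : Over S} (y : (yon S).obj T ⟶ Z), ∃ (T' : Over S) (φ : T' ⟶ T) (y' : T' ⟶ q.pt),
      fppf φ.left ∧ (yon S).map y' ≫ π = (yon S).map φ ≫ y := fun {T} y =>
    ⟨_, hπ.snd y, hπ.fst' y, ⟨⟨hsj.property _ _ _ (hπ.isPullback y), hf.property _ _ _ (hπ.isPullback y)⟩,
      hl.property _ _ _ (hπ.isPullback y)⟩, (hπ.isPullback' y).w⟩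
  have hmono : Mono i := mono_of_yon_injective fun T y z hyz => by
    obtain ⟨T₁, φ₁, y₁, hφ₁, hy₁⟩ := hloc y
    obtain ⟨T₂, φ₂, z₂, hφ₂, hz₂⟩ := hloc ((yon S).map φ₁ ≫ z)
    have hy₂ : (yon S).map (φ₂ ≫ y₁) ≫ π = (yon S).map (φ₂ ≫ φ₁) ≫ y := by
      rw [Functor.map_comp, Category.assoc, hy₁, Functor.map_comp, Category.assoc]
    have hz₂' : (yon S).map z₂ ≫ π = (yon S).map (φ₂ ≫ φ₁) ≫ z := by
      rw [hz₂, Functor.map_comp, Category.assoc]
    have h : (yon S).map (φ₂ ≫ y₁) ≫ q.toHom = (yon S).map z₂ ≫ q.toHom := by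
      rw [← hi, reassoc_of% hy₂, reassoc_of% hz₂', hyz]
    obtain ⟨r, hr₁, hr₂⟩ := exists_rel_lift sq _ _ h
    refine hom_ext_of_fppf (φ₂ ≫ φ₁) (MorphismProperty.comp_mem _ φ₂.left φ₁.left hφ₂ hφ₁) _ _ ?_
    rw [← hy₂, ← hz₂', ← hr₁, ← hr₂, Functor.map_comp, Functor.map_comp, Category.assoc, Category.assoc, sqZ.w]
  have hpt : Points.mk q = Points.ofPt a u := rfl
  refine ⟨Z, i, hZ, hmono, Set.Subset.antisymm ?_ ?_, q.K, inferInstance, q.str, π, locP_of_repWith hl,
    locP_of_repWith hf, (repWith_surjective_iff hπ).1 hsj⟩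
  · rintro _ ⟨z, rfl⟩
    obtain ⟨y, rfl⟩ := surjective_ofPt hsj z
    rw [Points.map_ofPt, hi]
    exact (Points.ofPt_toHom q y).trans hpt
  · rintro _ rfl
    refine ⟨Points.ofPt π (IsLocalRing.closedPoint q.K), ?_⟩
    rw [Points.map_ofPt, hi]
    exact (Points.ofPt_toHom q _).trans hpt

end Groth.Agent.DecentElem
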