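import Groth.Agent.AlgSpDec.LqfSplitShrink
import Groth.Agent.AlgSpDec.Fibres
import Groth.Agent.AlgSpDec.DecentDense
import Groth.Agent.AlgSpDec.MonoPoint
import Groth.Agent.MorLib.ElemEtaleSplit

/-!
# Splitting data with the whole fibre in the piece
-/

set_option autoImplicit false
set_option backward.isDefEq.respectTransparency false
set_option backward.isDefEq.respectTransparency.types false

universe u

open CategoryTheory Limits Opposite AlgebraicGeometry AlgSp Groth.Agent.AlgSpLib Groth.Agent.AlgSpPts Groth.Agent.AlgSpDec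

namespace Groth.Agent.DecentElem

variable {S : Scheme.{u}} {F : Sp S}

/-- An affine chart with a single point over a given point of a decent space. -/
theorem exists_single_chart (hA : IsAlgSpace F) (hF : IsDecent F) (x : Points F) :
    ∃ (V : Over S) (a : (yon S).obj V ⟶ F) (v : ↥V.left), IsAffine V.left ∧ RepWith @Etale a ∧
      Points.ofPt a ⁻¹' {x} = {v} := by
  obtain ⟨U₀, a₀, ha₀, has₀⟩ := hA.atlas
  obtain ⟨u₀, hu₀⟩ := surjective_ofPt has₀ x
  obtain ⟨U, ι, u, hU, -, hιu, ha⟩ := exists_affine_restrict ha₀ u₀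
  generalize hab : (yon S).map ι ≫ a₀ = a at ha
  have hux : Points.ofPt a u = x := by rw [← hab, ofPt_comp, hιu, hu₀]
  have : IsAffine U.left := hU
  obtain ⟨p, hp, -, hq⟩ := hF x
  have hfin : (Points.ofPt a ⁻¹' {x}).Finite := hp ▸ finite_fibre_of_repWith ha p hq
  obtain ⟨O, hO, huO, hOF⟩ := isOpen_singleton_fibre hfin (u := u) hux
    fun v hv hvu => (eq_of_specializes_of_isDecent hF ha (hux.trans (Eq.symm hv)) hvu).symm
  obtain ⟨A, hAa, huA, hAO⟩ := exists_isAffineOpen_mem_and_subset (U := (⟨O, hO⟩ : U.left.Opens)) (x := u) huO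
  let j := openOverι U A
  refine ⟨openOver U A, (yon S).map j ≫ a, ⟨u, huA⟩, hAa,
    repWith_comp ((repWith_yon_map_iff _ j).2 (inferInstanceAs (Etale A.ι))) ha, ?_⟩
  ext w
  show Points.ofPt ((yon S).map j ≫ a) w = x ↔ w = ⟨u, huA⟩
  rw [ofPt_comp]
  exact ⟨fun h => Subtype.ext (hOF ⟨hAO w.2, h⟩), fun h => by rw [h]; exact hux⟩

variable {V : Over S} {p : (yon S).obj V ⟶ F}

/-- A splitting whose piece holds the whole fibre. -/
theorem exists_split_fibre [IsAffine V.left] (he : RepWith @Etale p) (v : V.left)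
    (hfin : ((he.rep.snd p).left ⁻¹' {v}).Finite) :
    ∃ (D : Split p) (u : D.T.left), D.τ.left u = v ∧ (∀ z, D.sn.left z = u → z ∈ D.P) := by
  let hp := he.rep
  let R := hp.pullback p
  let t := hp.fst' p
  let s := hp.snd p
  have sqR : IsPullback ((yon S).map t) ((yon S).map s) p p := hp.isPullback' p
  have : Etale s.left := he.property_snd p
  have hsep : IsSeparated s.left := isSeparated_snd_of_isAffine he
  obtain ⟨e, het, hes⟩ := exists_rel_lift sqR (𝟙 V) (𝟙 V) rfl
  obtain ⟨U₀, g, u, ⟨hg, hgu, -⟩, Pu, -, hPfin, hPu⟩ :=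
    Groth.Agent.MorLib.EEF.exists_elem_split s.left v (by
      refine ((hfin.preimage (s.left.fiberι v).isEmbedding.injective.injOn).subset fun w _ => ?_)
      have : s.left.fiberι v w ∈ Set.range (s.left.fiberι v) := ⟨w, rfl⟩
      rwa [Scheme.Hom.range_fiberι] at this)
  let T : Over S := Over.mk (g ≫ V.hom)
  let τ : T ⟶ V := CategoryTheory.Over.homMk g rfl
  have : Etale τ.left := hg
  let Q : Over S := pullback s τ
  let pr : Q ⟶ R := pullback.fst s τ
  let sn : Q ⟶ T := pullback.snd s τ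
  have hQ : IsPullback pr.left sn.left s.left g := (IsPullback.of_hasPullback s τ).map (Over.forget S)
  let φ := hQ.isoPullback
  let P : Q.left.Opens := φ.hom ⁻¹ᵁ Pu
  have hfinP : IsFinite (P.ι ≫ sn.left) := by
    rw [← hQ.isoPullback_hom_snd, ← Category.assoc, ← morphismRestrict_ι φ.hom Pu, Category.assoc]
    infer_instance
  have sq : IsPullback ((yon S).map (pr ≫ t)) ((yon S).map sn) p ((yon S).map τ ≫ p) := by
    rw [Functor.map_comp]
    exact ((IsPullback.of_hasPullback s τ).map (yon S)).paste_horiz sqR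
  let σ : T ⟶ Q := pullback.lift (τ ≫ e) (𝟙 T) (by rw [Category.assoc, hes, Category.comp_id, Category.id_comp])
  have hσpr : σ ≫ pr = τ ≫ e := pullback.lift_fst _ _ _
  have hσsn : σ ≫ sn = 𝟙 T := pullback.lift_snd _ _ _
  have hσcq : σ ≫ pr ≫ t = τ := by rw [reassoc_of% hσpr, het, Category.comp_id]
  have : Etale sn.left := MorphismProperty.of_isPullback (P := @Etale) hQ inferInstance
  have : IsSeparated sn.left := MorphismProperty.of_isPullback (P := @IsSeparated) hQ hsep
  have hall : ∀ z, sn.left z = u → z ∈ P := fun z hz => by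
    by_contra hzP
    let q := pullback.snd s.left g
    have hqu : q (φ.hom z) = u := by rw [← Scheme.Hom.comp_apply, hQ.isoPullback_hom_snd]; exact hz
    obtain ⟨w, hw⟩ : φ.hom z ∈ Set.range (q.fiberι u) := by rw [Scheme.Hom.range_fiberι]; exact hqu
    refine hPu w (fun h => hzP (by show φ.hom z ∈ Pu; exact hw ▸ h)) ?_
    have hq : Etale q := MorphismProperty.pullback_snd _ _ ‹Etale s.left›
    obtain ⟨O, hO, hO'⟩ := isDiscrete_iff_forall_mem_exists_isOpen.1 (q.isDiscrete_preimage_singleton u) _ hqu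
    convert hO.preimage (q.fiberι u).continuous using 1
    ext w'
    have hw' : q.fiberι u w' ∈ q ⁻¹' {u} := by rw [← Scheme.Hom.range_fiberι]; exact ⟨w', rfl⟩
    constructor
    · rintro rfl
      show q.fiberι u w' ∈ O
      rw [hw]
      exact (hO'.symm.subset rfl).1
    · exact fun h => (q.fiberι u).isEmbedding.injective ((hO'.subset ⟨h, hw'⟩).trans hw.symm)
  have hσu : u ∈ σ.left ⁻¹ᵁ P := hall _ (by rw [← Scheme.Hom.comp_apply, ← Over.comp_left, hσsn]; rfl)
  obtain ⟨D, jT, jQ, hjo, hjr, hτ, sqJ, -, hDP, -⟩ := Split.exists_restrict τ sn (pr ≫ t) σ sq P hfinP hσsn hσcq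
    (σ.left ⁻¹ᵁ P) (fun a ha => ha)
  obtain ⟨u', hu'⟩ : u ∈ Set.range jT.left := by rw [hjr]; exact hσu
  refine ⟨D, u', ?_, fun z hz => ?_⟩
  · rw [← hτ, Over.comp_left, Scheme.Hom.comp_apply, hu']; exact hgu
  · rw [hDP]
    refine hall _ ?_
    rw [← Scheme.Hom.comp_apply, ← Over.comp_left, sqJ.w, Over.comp_left, Scheme.Hom.comp_apply, hz, hu']

theorem mem_E_of_fibre (D : Split p) {u : D.T.left} (hall : ∀ z, D.sn.left z = u → z ∈ D.P) {r : D.R2.left}
    (ha : D.ra.left r = u) (hb : D.rb.left r = u) : r ∈ D.E := by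
  refine D.mem_E_iff.2 fun w hw => iff_of_true (hall _ ?_) (hall _ ?_)
  · rw [← Scheme.Hom.comp_apply, ← Over.comp_left, ← pullback.condition, Over.comp_left, Scheme.Hom.comp_apply, hw, ha]
  · rw [← Scheme.Hom.comp_apply, ← Over.comp_left, D.χ_sn, Over.comp_left, Scheme.Hom.comp_apply, hw, hb]

/-- A covered splitting whose piece holds the whole fibre over the only point above a point of the space. -/
theorem exists_cov_split_fibre [IsAffine V.left] (he : RepWith @Etale p) (v : V.left)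
    (hv : Points.ofPt p ⁻¹' {Points.ofPt p v} = {v}) (hfin : ((he.rep.snd p).left ⁻¹' {v}).Finite) :
    ∃ (D : Split p) (u : D.T.left), D.τ.left u = v ∧ D.Cov ∧ ∀ z, D.sn.left z = u → z ∈ D.P := by
  obtain ⟨D, u, hu, hall⟩ := exists_split_fibre he v hfin
  obtain ⟨T₁', hT₁'⟩ := D.exists_good
  have huT' : u ∈ T₁' := (hT₁' u).2 fun z hz hzu => by
    have h1 : D.cq.left z = v := by
      refine (Set.ext_iff.1 hv _).1 ?_
      show Points.ofPt p (D.cq.left z) = Points.ofPt p v
      rw [← ofPt_comp, D.sq.w, ofPt_comp, ofPt_comp, hzu, hu]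
    obtain ⟨r, hr₁, hr₂⟩ := Scheme.exists_preimage_of_isPullback
      ((IsPullback.of_hasPullback D.cq D.τ).map (Over.forget S)) z u (h1.trans hu.symm)
    refine ⟨r, mem_E_of_fibre D hall ?_ hr₂, hr₁⟩
    rw [Over.comp_left, Scheme.Hom.comp_apply]
    exact (congrArg D.sn.left hr₁).trans hzu
  let T₁ := T₁'
  have hT₁ := hT₁'
  have huT : u ∈ T₁ := huT'
  have : IsFinite (D.P.ι ≫ D.sn.left) := D.finP
  obtain ⟨D', j, jQ, hjo, hjr, hjτ, sqJ, hjcq, hDP, -⟩ := Split.exists_restrict D.τ D.sn D.cq D.σ D.sq D.P D.finP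
    D.σsn D.σcq T₁ (fun a _ => D.memP a)
  have : Mono j := (Over.forget S).mono_of_mono_map (inferInstanceAs (Mono j.left))
  have hjQinj : Function.Injective jQ.left := by
    have : IsOpenImmersion jQ.left := MorphismProperty.of_isPullback (P := @IsOpenImmersion)
      (sqJ.map (Over.forget S)).flip hjo
    exact jQ.left.isOpenEmbedding.injective
  obtain ⟨u', hu'⟩ : u ∈ Set.range j.left := by rw [hjr]; exact huT
  refine ⟨D', u', by rw [← hjτ, Over.comp_left, Scheme.Hom.comp_apply, hu', hu], fun z hz => ?_, fun z hz => ?_⟩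
  rotate_left
  · rw [hDP]
    show jQ.left z ∈ D.P
    refine hall _ ?_
    rw [← Scheme.Hom.comp_apply, ← Over.comp_left, sqJ.w, Over.comp_left, Scheme.Hom.comp_apply, hz, hu']

  rw [hDP] at hz
  have hzT : D.sn.left (jQ.left z) ∈ T₁ := by
    show _ ∈ (T₁ : Set D.T.left)
    rw [← hjr]
    exact ⟨D'.sn.left z, by
      rw [← Scheme.Hom.comp_apply, ← Scheme.Hom.comp_apply, ← Over.comp_left, ← Over.comp_left, sqJ.w]⟩
  obtain ⟨r, hr, hrz⟩ := (hT₁ _).1 hzT _ hz rfl
  have hra : D.ra.left r = D.sn.left (jQ.left z) := by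
    rw [Over.comp_left, Scheme.Hom.comp_apply, hrz]
  have hrb : D.rb.left r ∈ T₁ := (hT₁ _).2 fun zb hzb hzbr =>
    D.good_of_pair hr (by rw [hra]; exact (hT₁ _).1 hzT) hzb hzbr
  let X₀ : D.R2.left.Opens := D.E ⊓ D.ra.left ⁻¹ᵁ T₁ ⊓ D.rb.left ⁻¹ᵁ T₁
  let i := openOverι D.R2 X₀
  have hrX : r ∈ X₀ := ⟨⟨hr, by show D.ra.left r ∈ T₁; rw [hra]; exact hzT⟩, hrb⟩
  obtain ⟨a', ha'⟩ := exists_factor_openImm j (i ≫ D.ra) fun x => by rw [hjr]; exact x.2.1.2
  obtain ⟨b', hb'⟩ := exists_factor_openImm j (i ≫ D.rb) fun x => by rw [hjr]; exact x.2.2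
  let q' := sqJ.lift (i ≫ pullback.fst D.cq D.τ) a' (by rw [ha', Category.assoc])
  have hq1 : q' ≫ jQ = i ≫ pullback.fst D.cq D.τ := sqJ.lift_fst _ _ _
  let r₀ : openOver D.R2 X₀ ⟶ D'.R2 := pullback.lift (f := D'.cq) (g := D'.τ) q' b' (by
    rw [← hjcq, ← hjτ, reassoc_of% hq1, reassoc_of% hb', pullback.condition])
  have hr1 : r₀ ≫ pullback.fst D'.cq D'.τ = q' := pullback.lift_fst _ _ _
  refine ⟨r₀.left ⟨r, hrX⟩, (D'.same_iff r₀).1 ?_ _, hjQinj ?_⟩
  · rw [pullback.lift_fst_assoc, sqJ.lift_snd, pullback.lift_snd]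
    have hs := (D.same_iff i).2 fun x => x.2.1.1
    rw [← ha', ← hb'] at hs
    refine ⟨?_, fun X' φ qa qb h1 h2 h3 ω => ?_⟩
    · have := hs.1
      rw [Functor.map_comp, Functor.map_comp, Category.assoc, Category.assoc] at this
      rwa [Split.c, ← hjτ, Functor.map_comp, Category.assoc]
    · have := hs.2 φ (qa ≫ jQ) (qb ≫ jQ) (by rw [Category.assoc, sqJ.w, reassoc_of% h1])
        (by rw [Category.assoc, sqJ.w, reassoc_of% h2]) (by rw [Category.assoc, Category.assoc, hjcq, h3]) ω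
      rw [Over.comp_left, Over.comp_left, Scheme.Hom.comp_apply, Scheme.Hom.comp_apply] at this
      rw [hDP]
      exact this
  · rw [← hrz, ← Scheme.Hom.comp_apply (r₀.left), ← Over.comp_left, hr1, ← Scheme.Hom.comp_apply q'.left,
      ← Over.comp_left, hq1, Over.comp_left, Scheme.Hom.comp_apply]
    rfl

end Groth.Agent.DecentElem
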