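import Groth.Agent.AlgSpLib.RepBySp
import Groth.Agent.AlgSpLib.Sheaf
import Mathlib.AlgebraicGeometry.Morphisms.UniversallyOpen
import Mathlib.AlgebraicGeometry.Sites.Fpqc

/-!
# A Zariski sheaf covered by subfunctors representable by algebraic spaces is an fppf sheaf
-/

set_option autoImplicit false
set_option backward.isDefEq.respectTransparency false
set_option backward.isDefEq.respectTransparency.types false

universe v u

open CategoryTheory Limits Opposite AlgebraicGeometry AlgSp Groth.Agent.AlgSpLib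

namespace Groth.Agent.DecentElem

variable {S : Scheme.{u}} {F : PSp S}

/-- A section lying locally in a subfunctor representable by algebraic spaces lies in it. -/
theorem mem_range_of_local {G : PSp S} {a : G ⟶ F} [Mono a] (ha : RepBySp a) {T : Over S} {R : Sieve T}
    (hR : R ∈ J S T) (x : F.obj (op T))
    (h : ∀ ⦃T' : Over S⦄ (f : T' ⟶ T), R f → F.map f.op x ∈ Set.range (a.app (op T'))) :
    x ∈ Set.range (a.app (op T)) := by
  let ξ : (pyon S).obj T ⟶ F := uliftYonedaEquiv.symm x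
  have hξ : ∀ {T' : Over S} (φ : T' ⟶ T), ξ.app (op T') ⟨φ⟩ = F.map φ.op x := fun φ => rfl
  have hW := ((isSheaf_iff_isSheaf_of_type _ _).1 (ha ξ _ _ (IsPullback.of_hasPullback a ξ)).1) R hR
  have hP : ∀ T' : (Over S)ᵒᵖ, IsPullback ((pullback.fst a ξ).app T') ((pullback.snd a ξ).app T')
      (a.app T') (ξ.app T') := fun T' =>
    (IsPullback.of_hasPullback a ξ).map ((evaluation _ _).obj T')
  have hinj : ∀ T' : (Over S)ᵒᵖ, Function.Injective (a.app T') :=
    fun T' => (mono_iff_injective _).1 inferInstance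
  have huniq : ∀ {T' : Over S} (w w' : (pullback a ξ).obj (op T')),
      (pullback.snd a ξ).app _ w = (pullback.snd a ξ).app _ w' → w = w' := fun w w' h' => by
    refine Types.ext_of_isPullback (hP _) (hinj _ ?_) h'
    rw [← NatTrans.comp_app_apply, ← NatTrans.comp_app_apply, pullback.condition, NatTrans.comp_app_apply,
      NatTrans.comp_app_apply, h']
  have : ∀ {T' : Over S} (φ : T' ⟶ T), R φ → ∃ z : (pullback a ξ).obj (op T'),
      (pullback.snd a ξ).app _ z = ⟨φ⟩ := fun φ hφ => by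
    obtain ⟨y, hy⟩ := h φ hφ
    obtain ⟨z, -, hz⟩ := Types.exists_of_isPullback (hP _) y ⟨φ⟩ (hy.trans (hξ φ).symm)
    exact ⟨z, hz⟩
  let z : Presieve.FamilyOfElements (pullback a ξ) R.arrows := fun T' φ hφ => (this φ hφ).choose
  have hz : ∀ {T' : Over S} (φ : T' ⟶ T) (hφ : R φ), (pullback.snd a ξ).app _ (z φ hφ) = ⟨φ⟩ :=
    fun φ hφ => (this φ hφ).choose_spec
  have hzc : z.Compatible := fun Y₁ Y₂ Z g₁ g₂ f₁ f₂ h₁ h₂ e => huniq _ _ (by
    rw [NatTrans.naturality_apply, NatTrans.naturality_apply, hz f₁ h₁, hz f₂ h₂]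
    exact congrArg ULift.up e)
  let z₀ := hW.amalgamate z hzc
  have hY := ((isSheaf_iff_isSheaf_of_type _ _).1 ((yon S).obj T).property) R hR
  have h₀ : (pullback.snd a ξ).app _ z₀ = ⟨𝟙 T⟩ := hY.isSeparatedFor.ext fun T' φ hφ => by
    show ((pyon S).obj T).map φ.op _ = ((pyon S).obj T).map φ.op _
    rw [← NatTrans.naturality_apply, hW.valid_glue hzc φ hφ, hz φ hφ]
    exact congrArg ULift.up (Category.comp_id φ).symm
  refine ⟨(pullback.fst a ξ).app _ z₀, ?_⟩
  rw [← NatTrans.comp_app_apply, pullback.condition, NatTrans.comp_app_apply, h₀, hξ, op_id, F.map_id]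
  rfl

variable {ι : Type v} {Fi : ι → PSp S} {m : ∀ i, Fi i ⟶ F} [∀ i, Mono (m i)]

/-- The sieve of pieces over which a family of sections lies in one of the subfunctors. -/
def pieceSieve (m : ∀ i, Fi i ⟶ F) {T : Over S} {R : Sieve T} (s : Presieve.FamilyOfElements F R.arrows) :
    Sieve T where
  arrows T' f := ∃ i, ∀ ⦃T'' : Over S⦄ (g : T'' ⟶ T') (h : R (g ≫ f)),
    s (g ≫ f) h ∈ Set.range ((m i).app (op T''))
  downward_closed := by
    rintro T' T₁ f ⟨i, hi⟩ k
    refine ⟨i, fun T'' g h => ?_⟩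
    have := hi (g ≫ k) (by rw [Category.assoc]; exact h)
    convert this using 2; rw [Category.assoc]

theorem pieceSieve_mem (hb : ∀ i, RepBySp (m i))
    (hc : ∀ (T : Over S) (x : F.obj (op T)), ∃ R ∈ (J S) T,
      ∀ ⦃T' : Over S⦄ (f : T' ⟶ T), R.arrows f → ∃ i, F.map f.op x ∈ Set.range ((m i).app (op T')))
    {T : Over S} {R : Sieve T} (hR : R ∈ J S T) (s : Presieve.FamilyOfElements F R.arrows) (hs : s.Compatible) :
    pieceSieve m s ∈ QuotSh.J Scheme.zariskiPrecoverage S T := by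
  let R' : Sieve T :=
    { arrows := fun T' f => ∃ h : R f, ∃ i, s f h ∈ Set.range ((m i).app (op T'))
      downward_closed := by
        rintro T' T₁ f ⟨h, i, y, hy⟩ k
        refine ⟨R.downward_closed h k, i, (Fi i).map k.op y, ?_⟩
        rw [NatTrans.naturality_apply, hy]
        exact ((Presieve.compatible_iff_sieveCompatible s).1 hs f k h).symm }
  have hR' : R' ∈ J S T := by
    refine (J S).transitive hR R' fun T' f hf => ?_
    obtain ⟨R₁, hR₁, h₁⟩ := hc T' (s f hf)
    refine (J S).superset_covering ?_ hR₁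
    intro T'' g hg
    obtain ⟨i, hi⟩ := h₁ g hg
    exact ⟨R.downward_closed hf g, i, by rwa [(Presieve.compatible_iff_sieveCompatible s).1 hs f g hf]⟩
  rw [GrothendieckTopology.mem_over_iff] at hR' ⊢
  have : (@Flat ⊓ @LocallyOfFinitePresentation : MorphismProperty Scheme.{u}).ContainsIdentities :=
    ⟨fun X => ⟨inferInstanceAs (Flat (𝟙 X)), inferInstanceAs (LocallyOfFinitePresentation (𝟙 X))⟩⟩
  have : Scheme.fppfPrecoverage.HasIsos :=
    inferInstanceAs (Scheme.precoverage (@Flat ⊓ @LocallyOfFinitePresentation)).HasIsos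
  have : Scheme.fppfPrecoverage.HasPullbacks := ⟨fun {X} R f hR => inferInstance⟩
  obtain ⟨Rp, hRp, hle⟩ := Precoverage.mem_toGrothendieck_iff_of_isStableUnderComposition.1 hR'
  obtain ⟨hsurj, hP⟩ := hRp
  rw [Scheme.jointlySurjectivePrecoverage, Presieve.mem_comap_jointlySurjectivePrecoverage_iff] at hsurj
  choose Yx g hg hx using hsurj
  have hopen : ∀ x, IsOpen (Set.range (g x)) := fun x => by
    have := (hP (hg x)).1
    have := (hP (hg x)).2
    exact (g x).isOpenMap.isOpen_range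
  let V : T.left → T.left.Opens := fun x => ⟨Set.range (g x), hopen x⟩
  let 𝒰 : T.left.OpenCover := T.left.openCoverOfIsOpenCover V (TopologicalSpace.IsOpenCover.mk
    (top_le_iff.1 fun x _ => TopologicalSpace.Opens.mem_iSup.2 ⟨x, hx x⟩))
  refine GrothendieckTopology.superset_covering _ ?_ (Precoverage.generate_mem_toGrothendieck 𝒰.mem₀)
  rw [Sieve.generate_le_iff]
  rintro _ _ ⟨x⟩
  rw [Sieve.overEquiv_iff]
  have hgR : R' (Over.homMk (g x) : Over.mk (g x ≫ T.hom) ⟶ T) := (Sieve.overEquiv_iff _ _).1 (hle _ _ (hg x))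
  obtain ⟨hgR₀, i, hi⟩ := hgR
  refine ⟨i, fun T'' k hk => ?_⟩
  -- a covering of `T''` on which the sections come from `Y x`
  have := (hP (hg x)).1
  have := (hP (hg x)).2
  let l : Yx x ⟶ (V x : Scheme.{u}) := IsOpenImmersion.lift (V x).ι (g x) (by rw [Scheme.Opens.range_ι]; exact le_rfl)
  have hl : l ≫ (V x).ι = g x := IsOpenImmersion.lift_fac _ _ _
  have : Flat l := by
    have : Flat (l ≫ (V x).ι) := hl ▸ inferInstance
    exact MorphismProperty.of_postcomp (W := @Flat) (W' := @IsOpenImmersion) l (V x).ι inferInstance this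
  have : LocallyOfFinitePresentation l := by
    have : LocallyOfFinitePresentation (l ≫ (V x).ι) := hl ▸ inferInstance
    exact MorphismProperty.of_postcomp (W := @LocallyOfFinitePresentation) (W' := @IsOpenImmersion) l (V x).ι inferInstance this
  have : Surjective l := ⟨fun z => by
    obtain ⟨q, hq⟩ : z.1 ∈ Set.range (g x) := z.2
    exact ⟨q, (V x).ι.injective (by rw [← Scheme.Hom.comp_apply, hl, hq]; rfl)⟩⟩
  let A : Over S := Over.mk (pullback.fst k.left l ≫ T''.hom)
  let a : A ⟶ T'' := Over.homMk (pullback.fst k.left l) rfl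
  let b : A ⟶ Over.mk (g x ≫ T.hom) := Over.homMk (pullback.snd k.left l) (by
    show pullback.snd k.left l ≫ g x ≫ T.hom = pullback.fst k.left l ≫ T''.hom
    rw [← hl, ← Category.assoc, ← Category.assoc, ← pullback.condition, ← Over.w k]
    simp [Category.assoc]
    rfl)
  have hfac : ∀ {T₁ : Over S} (c : T₁ ⟶ A),
      (c ≫ b) ≫ (Over.homMk (g x) : Over.mk (g x ≫ T.hom) ⟶ T) = (c ≫ a) ≫ k ≫ Over.homMk (V x).ι rfl := by
    intro T₁ c
    apply Over.OverMorphism.ext
    show (c.left ≫ pullback.snd k.left l) ≫ g x = (c.left ≫ pullback.fst k.left l) ≫ k.left ≫ (V x).ι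
    rw [← hl, Category.assoc, Category.assoc, pullback.condition_assoc]
  have hmem : Sieve.generate (Presieve.singleton a) ∈ J S T'' := by
    refine mem_J_of_fppf a ?_ _ ⟨A, 𝟙 A, a, Presieve.singleton_self a, Category.id_comp _⟩
    exact fppf_of (pullback.fst k.left l)
  refine mem_range_of_local (hb i) hmem _ ?_
  rintro T₁ _ ⟨_, c, _, ⟨⟩, rfl⟩
  obtain ⟨y, hy⟩ := hi
  refine ⟨(Fi i).map (c ≫ b).op y, ?_⟩
  rw [NatTrans.naturality_apply, hy]
  exact hs (c ≫ b) (c ≫ a) hgR₀ hk (hfac c)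

theorem eq_of_local_eq (h1 : Presheaf.IsSheaf (QuotSh.J Scheme.zariskiPrecoverage S) F)
    (ha : ∀ i, Presheaf.IsSheaf (J S) (Fi i)) (hb : ∀ i, RepBySp (m i))
    (hc : ∀ (T : Over S) (x : F.obj (op T)), ∃ R ∈ (J S) T,
      ∀ ⦃T' : Over S⦄ (f : T' ⟶ T), R.arrows f → ∃ i, F.map f.op x ∈ Set.range ((m i).app (op T')))
    {T : Over S} {R : Sieve T} (hR : R ∈ J S T) (x y : F.obj (op T))
    (h : ∀ ⦃T' : Over S⦄ (f : T' ⟶ T), R f → F.map f.op x = F.map f.op y) : x = y := by
  let s : Presieve.FamilyOfElements F (⊤ : Sieve T).arrows := fun T' f _ => F.map f.op x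
  have hs : s.Compatible := fun Y₁ Y₂ Z g₁ g₂ f₁ f₂ _ _ e => by
    show F.map g₁.op (F.map f₁.op x) = F.map g₂.op (F.map f₂.op x)
    rw [← F.map_comp_apply, ← F.map_comp_apply, ← op_comp, ← op_comp, e]
  refine (((isSheaf_iff_isSheaf_of_type _ _).1 h1) _
    (pieceSieve_mem hb hc ((J S).top_mem T) s hs)).isSeparatedFor.ext ?_
  rintro T' f ⟨i, hi⟩
  obtain ⟨a, ha'⟩ := hi (𝟙 T') trivial
  replace ha' : (m i).app _ a = F.map f.op x := by
    rw [ha']
    show F.map (𝟙 T' ≫ f).op x = _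
    rw [Category.id_comp]
  have hR' : R.pullback f ∈ J S T' := (J S).pullback_stable f hR
  have hy : ∀ ⦃T'' : Over S⦄ (g : T'' ⟶ T'), R.pullback f g →
      F.map g.op (F.map f.op y) = (m i).app _ ((Fi i).map g.op a) := fun T'' g hg => by
    rw [NatTrans.naturality_apply, ha', ← F.map_comp_apply, ← F.map_comp_apply, ← op_comp]
    exact (h _ hg).symm
  obtain ⟨b, hb'⟩ := mem_range_of_local (hb i) hR' (F.map f.op y) fun T'' g hg => ⟨_, (hy g hg).symm⟩
  rw [← ha', ← hb']
  congr 1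
  refine (((isSheaf_iff_isSheaf_of_type _ _).1 (ha i)) _ hR').isSeparatedFor.ext fun T'' g hg =>
    (mono_iff_injective ((m i).app (op T''))).1 inferInstance ?_
  rw [← hy g hg, NatTrans.naturality_apply, hb']

theorem isSheaf_of_subsheaves (h1 : Presheaf.IsSheaf (QuotSh.J Scheme.zariskiPrecoverage S) F)
    (ha : ∀ i, Presheaf.IsSheaf (J S) (Fi i)) (hb : ∀ i, RepBySp (m i))
    (hc : ∀ (T : Over S) (x : F.obj (op T)), ∃ R ∈ (J S) T,
      ∀ ⦃T' : Over S⦄ (f : T' ⟶ T), R.arrows f → ∃ i, F.map f.op x ∈ Set.range ((m i).app (op T'))) :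
    Presheaf.IsSheaf (J S) F := by
  rw [isSheaf_iff_isSheaf_of_type]
  intro T R hR s hs
  have hs' := (Presieve.compatible_iff_sieveCompatible s).1 hs
  have hex : ∀ {T' : Over S} (f : T' ⟶ T), pieceSieve m s f → ∃ x : F.obj (op T'),
      ∀ ⦃T'' : Over S⦄ (g : T'' ⟶ T') (h : R (g ≫ f)), F.map g.op x = s (g ≫ f) h := by
    rintro T' f ⟨i, hi⟩
    have hinj : ∀ T'' : (Over S)ᵒᵖ, Function.Injective ((m i).app T'') :=
      fun T'' => (mono_iff_injective _).1 inferInstance
    let z : Presieve.FamilyOfElements (Fi i) (R.pullback f).arrows := fun T'' g hg => (hi g hg).choose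
    have hz : ∀ {T'' : Over S} (g : T'' ⟶ T') (hg : R.pullback f g), (m i).app _ (z g hg) = s (g ≫ f) hg :=
      fun g hg => (hi g hg).choose_spec
    have hzc : z.Compatible := fun Y₁ Y₂ Z g₁ g₂ f₁ f₂ h₁ h₂ e => hinj _ (by
      rw [NatTrans.naturality_apply, NatTrans.naturality_apply, hz, hz]
      exact hs g₁ g₂ h₁ h₂ (by rw [← Category.assoc, e, Category.assoc]))
    have hA := ((isSheaf_iff_isSheaf_of_type _ _).1 (ha i)) _ ((J S).pullback_stable f hR)
    exact ⟨(m i).app _ (hA.amalgamate z hzc), fun T'' g h => by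
      rw [← NatTrans.naturality_apply, hA.valid_glue hzc g h, hz]⟩
  let t : Presieve.FamilyOfElements F (pieceSieve m s).arrows := fun T' f hf => (hex f hf).choose
  have ht : ∀ {T' : Over S} (f : T' ⟶ T) (hf : pieceSieve m s f) ⦃T'' : Over S⦄ (g : T'' ⟶ T') (h : R (g ≫ f)),
      F.map g.op (t f hf) = s (g ≫ f) h := fun f hf => (hex f hf).choose_spec
  have htc : t.Compatible := fun Y₁ Y₂ Z g₁ g₂ f₁ f₂ h₁ h₂ e => by
    refine eq_of_local_eq h1 ha hb hc ((J S).pullback_stable (g₁ ≫ f₁) hR) _ _ fun T'' g hg => ?_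
    have hg₁ : R ((g ≫ g₁) ≫ f₁) := by rw [Category.assoc]; exact hg
    have hg₂ : R ((g ≫ g₂) ≫ f₂) := by rw [Category.assoc, ← e]; exact hg
    rw [← F.map_comp_apply, ← F.map_comp_apply, ← op_comp, ← op_comp, ht f₁ h₁ _ hg₁, ht f₂ h₂ _ hg₂]
    congr 1
    rw [Category.assoc, Category.assoc, e]
  have hZ := ((isSheaf_iff_isSheaf_of_type _ _).1 h1) _ (pieceSieve_mem hb hc hR s hs)
  refine ⟨hZ.amalgamate t htc, fun T' f hf => ?_, fun y hy => hZ.isSeparatedFor.ext fun T' f hf => ?_⟩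
  · have hp : (pieceSieve m s).pullback f ∈ QuotSh.J Scheme.zariskiPrecoverage S T' :=
      GrothendieckTopology.pullback_stable _ f (pieceSieve_mem hb hc hR s hs)
    refine ((((isSheaf_iff_isSheaf_of_type _ _).1 h1) _ hp)).isSeparatedFor.ext fun T'' g hg => ?_
    rw [← F.map_comp_apply, ← op_comp, hZ.valid_glue htc (g ≫ f) hg, ← hs' f g hf]
    have h' : R (𝟙 T'' ≫ g ≫ f) := by rw [Category.id_comp]; exact R.downward_closed hf g
    refine ((F.map_id_apply (op T'') _).symm.trans ?_)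
    rw [← op_id, ht (g ≫ f) hg (𝟙 T'') h']
    congr 1
  · rw [hZ.valid_glue htc f hf]
    refine eq_of_local_eq h1 ha hb hc ((J S).pullback_stable f hR) _ _ fun T'' g hg => ?_
    rw [ht f hf g hg, ← F.map_comp_apply, ← op_comp]
    exact hy _ hg

end Groth.Agent.DecentElem
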